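import Groth.Agent.ValFP.Gauss

/-!
# Content and finite presentation of flat modules over local algebras over valuation rings

For a local algebra `B` essentially of finite type over a valuation ring `V` and a finite `B`-module `N`
torsion-free over `V`, every nonzero element of `N` is `c • y` with `y` outside `m N`, and `N` is finitely
presented over `B`.
-/

set_option autoImplicit false
set_option linter.style.haveILetI false

universe u

namespace Groth.Agent.ValFP

open MvPolynomial TensorProduct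

variable {V : Type u} [CommRing V] [IsDomain V] [ValuationRing V]

/-- Over a valuation ring, an element of `J • M` is one multiple. -/
theorem exists_smul_of_mem_smul_top {M : Type u} [AddCommGroup M] [Module V M] {J : Ideal V} {x : M}
    (hx : x ∈ J • (⊤ : Submodule V M)) : ∃ γ ∈ J, ∃ z : M, x = γ • z := by
  refine Submodule.smul_induction_on hx (fun r hr z _ => ⟨r, hr, z, rfl⟩) fun a b ha hb => ?_
  · obtain ⟨r, hr, z, rfl⟩ := ha
    obtain ⟨s, hs, w, rfl⟩ := hb
    rcases ValuationRing.dvd_total r s with ⟨t, rfl⟩ | ⟨t, rfl⟩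
    · exact ⟨r, hr, z + t • w, by rw [smul_add, mul_smul]⟩
    · exact ⟨s, hs, t • z + w, by rw [smul_add, mul_smul]⟩

variable {n : ℕ}

/-- Content at a prime over the maximal ideal of a finitely presented torsion-free module over `V[X]`. -/
theorem exists_content {M : Type u} [AddCommGroup M] [Module (MvPolynomial (Fin n) V) M]
    [Module.FinitePresentation (MvPolynomial (Fin n) V) M]
    (htf : ∀ (c : V) (x : M), c ≠ 0 → (C c : MvPolynomial (Fin n) V) • x = 0 → x = 0)
    (q : Ideal (MvPolynomial (Fin n) V)) [q.IsPrime] (hq : (IsLocalRing.maximalIdeal V).map C ≤ q)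
    (x : M) (hx : ∀ t, t ∉ q → t • x ≠ 0) :
    ∃ (c : V) (y : M) (s : MvPolynomial (Fin n) V), c ≠ 0 ∧ s ∉ q ∧ s • x = (C c : MvPolynomial (Fin n) V) • y ∧
      ∀ t, t ∉ q → ∀ π ∈ IsLocalRing.maximalIdeal V, ∀ z : M, t • y ≠ (C π : MvPolynomial (Fin n) V) • z := by
  classical
  let P := MvPolynomial (Fin n) V
  by_cases hm : ∀ π ∈ IsLocalRing.maximalIdeal V, π = 0
  · refine ⟨1, x, 1, one_ne_zero, (inferInstance : q.IsPrime).one_notMem, by rw [map_one, one_smul],
      fun t ht π hπ z h => hx t ht ?_⟩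
    rw [h, hm π hπ, map_zero, zero_smul]
  push Not at hm
  obtain ⟨π, hπ, hπ0⟩ := hm
  obtain ⟨c0, hc0, hsat⟩ := exists_saturation M htf (Submodule.span P {x})
  -- `x` is not a multiple of `c0 * π` near `q`
  have hclaim : ∀ t, t ∉ q → ∀ z : M, t • x ≠ (C (c0 * π) : P) • z := by
    intro t ht z h
    obtain ⟨p, hp⟩ := Submodule.mem_span_singleton.mp (hsat (c0 * π) z (mul_ne_zero hc0 hπ0)
      (Submodule.mem_span_singleton.mpr ⟨t, h⟩))
    have hCπ : (C π : P) * p ∈ q := q.mul_mem_right _ (hq (Ideal.mem_map_of_mem _ hπ))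
    refine hx (t - C π * p) (fun h' => ht ?_) ?_
    · simpa using q.add_mem h' hCπ
    · rw [sub_smul, h, mul_smul, hp, ← mul_smul, ← map_mul, mul_comm π c0, sub_self]
  let D : V := c0 * π
  have hD : D ≠ 0 := mul_ne_zero hc0 hπ0
  let W : Submodule P M := LinearMap.range (DistribSMul.toLinearMap P M (C D : P))
  haveI : Module.FinitePresentation P (M ⧸ W) := Module.finitePresentation_of_surjective W.mkQ W.mkQ_surjective (by
    rw [Submodule.ker_mkQ]
    change (LinearMap.range _).FG
    rw [LinearMap.range_eq_map]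
    exact Module.Finite.fg_top.map _)
  let J : Ideal P := LinearMap.ker (LinearMap.toSpanSingleton P (M ⧸ W) (W.mkQ x))
  have hJ : ∀ p, p ∈ J ↔ ∃ z : M, (C D : P) • z = p • x := fun p => by
    change p • W.mkQ x = 0 ↔ _
    rw [← map_smul, ← LinearMap.mem_ker, Submodule.ker_mkQ]
    exact Iff.rfl
  obtain ⟨a, ha⟩ := exists_dvd_iff_inLoc J (fg_ker_toSpanSingleton (M ⧸ W) _) q hq
  obtain ⟨c, hc⟩ : a ∣ D := (ha D).mp ⟨1, (inferInstance : q.IsPrime).one_notMem,
    (hJ _).mpr ⟨x, by rw [mul_one]⟩⟩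
  have ha0 : a ≠ 0 := fun h => hD (by rw [hc, h, zero_mul])
  obtain ⟨s, hs, hsJ⟩ := (ha a).mpr dvd_rfl
  obtain ⟨y, hy⟩ := (hJ _).mp hsJ
  have hsx : s • x = (C c : P) • y := by
    refine sub_eq_zero.mp (htf a _ ha0 ?_)
    rw [smul_sub, sub_eq_zero, ← mul_smul, ← hy, ← mul_smul, ← map_mul, ← hc]
  refine ⟨c, y, s, fun h => hD (by rw [hc, h, mul_zero]), hs, hsx, fun t ht π' hπ' z hz => ?_⟩
  have hts : t * s ∉ q := fun h => ((inferInstance : q.IsPrime).mem_or_mem h).elim ht hs
  have h2 : (t * s) • x = (C (c * π') : P) • z := by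
    rw [mul_smul, hsx, smul_comm, hz, ← mul_smul, ← map_mul]
  rcases ValuationRing.dvd_total D (c * π') with ⟨f, hf⟩ | ⟨e, he⟩
  · refine hclaim (t * s) hts ((C f : P) • z) ?_
    rw [h2, hf, map_mul, mul_smul]
  · have hcπ : c * π' ≠ 0 := fun h => hD (by rw [he, h, zero_mul])
    have hae : a = π' * e := mul_right_cancel₀ (left_ne_zero_of_mul hcπ) (by rw [← hc, he]; ring)
    have hIn : InLoc J q e := by
      refine ⟨t * s, hts, (hJ _).mpr ⟨z, ?_⟩⟩
      rw [mul_smul (C e : P) (t * s), h2, ← mul_smul, ← map_mul, mul_comm e, ← he]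
    obtain ⟨f, hf⟩ := (ha e).mp hIn
    refine (IsLocalRing.mem_maximalIdeal π').mp hπ' (IsUnit.of_mul_eq_one f ?_)
    exact mul_left_cancel₀ (fun h => ha0 (by rw [hae, h, mul_zero]) : e ≠ 0) (by linear_combination (-1 : V) * hf - f * hae)

section Local

variable {B : Type u} [CommRing B] [Algebra V B]

/-- `B` consists of fractions of the image of `V[X]` with unit denominators. -/
def IsFrac (φ : MvPolynomial (Fin n) V →ₐ[V] B) : Prop :=
  ∀ b : B, ∃ p s, IsUnit (φ s) ∧ b * φ s = φ p

theorem exists_isFrac [Algebra.EssFiniteType V B] :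
    ∃ (n : ℕ) (φ : MvPolynomial (Fin n) V →ₐ[V] B), IsFrac φ := by
  obtain ⟨n, f, hf⟩ := Algebra.FiniteType.iff_quotient_mvPolynomial''.mp
    (inferInstance : Algebra.FiniteType V (Algebra.EssFiniteType.subalgebra V B))
  refine ⟨n, (Algebra.EssFiniteType.subalgebra V B).val.comp f, fun b => ?_⟩
  obtain ⟨⟨x, ⟨t, ht⟩⟩, h⟩ := IsLocalization.surj (Algebra.EssFiniteType.submonoid V B) b
  obtain ⟨p, rfl⟩ := hf x
  obtain ⟨s, rfl⟩ := hf t
  exact ⟨p, s, ht, h⟩

variable {N : Type u} [AddCommGroup N] [Module B N]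

/-- Every element has a unit multiple in the `V[X]`-span of a set of generators. -/
theorem exists_smul_mem_span (φ : MvPolynomial (Fin n) V →ₐ[V] B) (hφ : IsFrac φ)
    [Module (MvPolynomial (Fin n) V) N] (htower : ∀ (p : MvPolynomial (Fin n) V) (z : N), p • z = φ p • z)
    (S : Set N) (hS : Submodule.span B S = ⊤) (z : N) :
    ∃ s, IsUnit (φ s) ∧ s • z ∈ Submodule.span (MvPolynomial (Fin n) V) S := by
  have hz : z ∈ Submodule.span B S := hS ▸ Submodule.mem_top
  induction hz using Submodule.span_induction with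
  | mem w hw => exact ⟨1, by rw [map_one]; exact isUnit_one, by rw [one_smul]; exact Submodule.subset_span hw⟩
  | zero => exact ⟨1, by rw [map_one]; exact isUnit_one, by rw [smul_zero]; exact zero_mem _⟩
  | add a b _ _ ha hb =>
    obtain ⟨s, hs, hsa⟩ := ha
    obtain ⟨t, ht, htb⟩ := hb
    refine ⟨s * t, by rw [map_mul]; exact hs.mul ht, ?_⟩
    rw [smul_add]
    refine add_mem ?_ ?_
    · rw [mul_comm, mul_smul]; exact Submodule.smul_mem _ _ hsa
    · rw [mul_smul]; exact Submodule.smul_mem _ _ htb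
  | smul b a _ ha =>
    obtain ⟨s, hs, hsa⟩ := ha
    obtain ⟨p, t, ht, hb⟩ := hφ b
    refine ⟨t * s, by rw [map_mul]; exact ht.mul hs, ?_⟩
    have h : (t * s) • b • a = p • s • a := by
      rw [htower, htower p, htower s, ← mul_smul, ← mul_smul, map_mul, ← hb]
      ring_nf
    rw [h]
    exact Submodule.smul_mem _ _ hsa

variable [Module V N] [IsScalarTower V B N] [Module.IsTorsionFree V N]

omit [IsDomain V] [ValuationRing V] [Module.IsTorsionFree V N] in
theorem C_smul_eq (φ : MvPolynomial (Fin n) V →ₐ[V] B) [Module (MvPolynomial (Fin n) V) N]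
    (htower : ∀ (p : MvPolynomial (Fin n) V) (z : N), p • z = φ p • z) (c : V) (z : N) :
    (C c : MvPolynomial (Fin n) V) • z = c • z := by
  rw [htower, ← algebraMap_eq, φ.commutes, algebraMap_smul]

/-- Content in a finite module torsion-free over `V` over a local essentially finite type algebra. -/
theorem exists_content_local (B : Type u) [CommRing B] [IsLocalRing B] [Algebra V B] [IsLocalHom (algebraMap V B)]
    [Algebra.EssFiniteType V B] {N : Type u} [AddCommGroup N] [Module B N] [Module V N] [IsScalarTower V B N]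
    [Module.IsTorsionFree V N] [Module.Finite B N] (x : N) (hx : x ≠ 0) :
    ∃ (c : V) (y : N), c ≠ 0 ∧ x = c • y ∧ ∀ π ∈ IsLocalRing.maximalIdeal V, ∀ z : N, y ≠ π • z := by
  classical
  obtain ⟨n, φ, hφ⟩ := exists_isFrac (V := V) (B := B)
  let P := MvPolynomial (Fin n) V
  letI : Module P N := Module.compHom N φ.toRingHom
  have htower : ∀ (p : P) (z : N), p • z = φ p • z := fun _ _ => rfl
  obtain ⟨S, hS⟩ := Module.Finite.fg_top (R := B) (M := N)
  let M0 : Submodule P N := Submodule.span P (S : Set N)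
  haveI : Module.Finite P M0 := Module.Finite.iff_fg.mpr ⟨S, rfl⟩
  have htf : ∀ (c : V) (z : M0), c ≠ 0 → (C c : P) • z = 0 → z = 0 := fun c z hc h => by
    have h' := congrArg Subtype.val h
    rw [Submodule.coe_smul, C_smul_eq φ htower, Submodule.coe_zero, smul_eq_zero] at h'
    exact Subtype.ext (h'.resolve_left hc)
  haveI := finitePresentation_of_torsionFree M0 htf
  let q : Ideal P := (IsLocalRing.maximalIdeal B).comap φ.toRingHom
  haveI : q.IsPrime := Ideal.comap_isPrime _ _
  have hunit : ∀ t, t ∉ q → IsUnit (φ t) := fun t ht => IsLocalRing.notMem_maximalIdeal.mp ht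
  have hnotMem : ∀ t, IsUnit (φ t) → t ∉ q := fun t ht => IsLocalRing.notMem_maximalIdeal.mpr ht
  have hq : (IsLocalRing.maximalIdeal V).map C ≤ q := Ideal.map_le_iff_le_comap.mpr fun a ha => by
    change φ (C a) ∈ IsLocalRing.maximalIdeal B
    rw [← algebraMap_eq, φ.commutes]
    exact map_nonunit (algebraMap V B) a ha
  have hSS := exists_smul_mem_span φ hφ htower (S : Set N) hS
  obtain ⟨s0, hs0, hw0⟩ := hSS x
  obtain ⟨c, y, s, hc, hs, hsy, hy⟩ := exists_content htf q hq (⟨s0 • x, hw0⟩ : M0) fun t ht h => hx (by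
    have h' : t • s0 • x = 0 := congrArg Subtype.val h
    rwa [htower, htower, (hunit t ht).smul_eq_zero, hs0.smul_eq_zero] at h')
  have hu : IsUnit (φ (s * s0)) := by rw [map_mul]; exact (hunit s hs).mul hs0
  obtain ⟨u, hu⟩ := hu
  refine ⟨c, (↑u⁻¹ : B) • y.1, hc, ?_, fun π hπ z hz => ?_⟩
  · have h' : s • s0 • x = (C c : P) • y.1 := congrArg Subtype.val hsy
    rw [← mul_smul, htower, ← hu, C_smul_eq φ htower] at h'
    rw [← smul_comm, ← h', ← mul_smul, Units.inv_mul, one_smul]
  · obtain ⟨s', hs', hw⟩ := hSS ((u : B) • z)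
    refine hy s' (hnotMem s' hs') π hπ ⟨_, hw⟩ (Subtype.ext ?_)
    change s' • y.1 = (C π : P) • s' • (u : B) • z
    have h' : y.1 = (u : B) • π • z := by rw [← hz, ← mul_smul, Units.mul_inv, one_smul]
    rw [h', C_smul_eq φ htower, htower, htower, smul_comm (u : B) π z, smul_comm (φ s') π]

/-- Finite modules torsion-free over `V` are finitely presented over a local essentially finite type algebra. -/
theorem finitePresentation_local (V : Type u) [CommRing V] [IsDomain V] [ValuationRing V] (B : Type u) [CommRing B]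
    [IsLocalRing B] [Algebra V B] [IsLocalHom (algebraMap V B)] [Algebra.EssFiniteType V B] (N : Type u)
    [AddCommGroup N] [Module B N] [Module V N] [IsScalarTower V B N] [Module.IsTorsionFree V N] [Module.Finite B N] :
    Module.FinitePresentation B N := by
  classical
  obtain ⟨n, φ, hφ⟩ := exists_isFrac (V := V) (B := B)
  let P := MvPolynomial (Fin n) V
  letI : Module P N := Module.compHom N φ.toRingHom
  letI : Algebra P B := φ.toRingHom.toAlgebra
  have htower : ∀ (p : P) (z : N), p • z = φ p • z := fun _ _ => rfl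
  haveI : IsScalarTower P B N := IsScalarTower.of_algebraMap_smul fun _ _ => rfl
  obtain ⟨S, hS⟩ := Module.Finite.fg_top (R := B) (M := N)
  let M0 : Submodule P N := Submodule.span P (S : Set N)
  haveI : Module.Finite P M0 := Module.Finite.iff_fg.mpr ⟨S, rfl⟩
  haveI := finitePresentation_of_torsionFree M0 (fun c z hc h => by
    have h' := congrArg Subtype.val h
    rw [Submodule.coe_smul, C_smul_eq φ htower, Submodule.coe_zero, smul_eq_zero] at h'
    exact Subtype.ext (h'.resolve_left hc))
  have hsurjmap : ∀ t : B ⊗[P] M0, ∃ s w, IsUnit (φ s) ∧ s • t = (1 : B) ⊗ₜ[P] w := by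
    intro t
    induction t using TensorProduct.induction_on with
    | zero => exact ⟨1, 0, by rw [map_one]; exact isUnit_one, by rw [smul_zero, tmul_zero]⟩
    | tmul b w =>
      obtain ⟨p, s, hs, hb⟩ := hφ b
      refine ⟨s, p • w, hs, ?_⟩
      rw [smul_tmul', show s • b = p • (1 : B) by
        rw [Algebra.smul_def, Algebra.smul_def, mul_one, mul_comm]; exact hb, smul_tmul]
    | add a b ha hb =>
      obtain ⟨s, w, hs, ha⟩ := ha
      obtain ⟨t, v, ht, hb⟩ := hb
      refine ⟨s * t, t • w + s • v, by rw [map_mul]; exact hs.mul ht, ?_⟩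
      rw [smul_add, tmul_add, tmul_smul, tmul_smul, ← ha, ← hb, ← mul_smul, ← mul_smul, mul_comm t s]
  let g : B ⊗[P] M0 →ₗ[B] N := M0.subtype.liftBaseChange B
  have hg : ∀ (b : B) (w : M0), g (b ⊗ₜ[P] w) = b • w.1 := fun b w => LinearMap.liftBaseChange_tmul ..
  have hinj : Function.Injective g := by
    rw [injective_iff_map_eq_zero]
    intro t ht
    obtain ⟨s, w, hs, h⟩ := hsurjmap t
    have h0 : w = 0 := Subtype.ext (by
      have := congrArg g h
      rw [← algebraMap_smul B s t, map_smul, ht, smul_zero, hg, one_smul] at this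
      exact this.symm)
    rw [h0, tmul_zero, ← algebraMap_smul B s t] at h
    exact hs.smul_eq_zero.mp h
  have hsurj : Function.Surjective g := by
    intro z
    obtain ⟨s, hs, hw⟩ := exists_smul_mem_span φ hφ htower (S : Set N) hS z
    obtain ⟨u, hu⟩ := hs
    refine ⟨(↑u⁻¹ : B) ⊗ₜ[P] (⟨_, hw⟩ : M0), ?_⟩
    rw [hg]
    change (↑u⁻¹ : B) • φ s • z = z
    rw [← hu, ← mul_smul, Units.inv_mul, one_smul]
  exact Module.FinitePresentation.of_equiv (LinearEquiv.ofBijective g ⟨hinj, hsurj⟩)

end Local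

end Groth.Agent.ValFP
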