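import Groth.Agent.ValFP.Content
import Groth.Agent.SerreReg.Regular

/-!
# Projective dimension over local algebras over valuation rings with regular closed fibre
-/

set_option autoImplicit false
set_option linter.style.haveILetI false

universe u

namespace Groth.Agent.ValFP

open SerreReg IsLocalRing

theorem valuationRing_localization (V : Type u) [CommRing V] [IsDomain V] [ValuationRing V] (p : Ideal V) [p.IsPrime] :
    ValuationRing (Localization.AtPrime p) := by
  haveI : IsDomain (Localization.AtPrime p) := IsLocalization.isDomain_localization p.primeCompl_le_nonZeroDivisors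
  refine ValuationRing.iff_dvd_total.2 ⟨fun x y => ?_⟩
  obtain ⟨a, s, rfl⟩ := IsLocalization.exists_mk'_eq p.primeCompl x
  obtain ⟨b, t, rfl⟩ := IsLocalization.exists_mk'_eq p.primeCompl y
  have hu : ∀ (c : V) (r : p.primeCompl),
      Associated (IsLocalization.mk' (Localization.AtPrime p) c r) (algebraMap V _ c) := fun c r =>
    ⟨(IsLocalization.map_units (Localization.AtPrime p) r).unit, by rw [IsUnit.unit_spec, IsLocalization.mk'_spec]⟩
  rw [(hu a s).dvd_iff_dvd_left, (hu b t).dvd_iff_dvd_right, (hu b t).dvd_iff_dvd_left, (hu a s).dvd_iff_dvd_right]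
  exact (ValuationRing.dvd_total a b).imp (fun h => map_dvd _ h) fun h => map_dvd _ h

section Local

variable {V A : Type u} [CommRing V] [IsDomain V] [ValuationRing V] [CommRing A] [IsLocalRing A]
  [Algebra V A] [IsLocalHom (algebraMap V A)] [Algebra.EssFiniteType V A]

/-- Projective dimension of torsion-free finite modules is read on the closed fibre. -/
theorem pdLE_of_red {S : Type u} [CommRing S] [IsLocalRing S] [Algebra A S]
    (hS : Function.Surjective (algebraMap A S))
    (hker : ∀ a, algebraMap A S a = 0 ↔ ∃ π ∈ maximalIdeal V, ∃ b : A, a = π • b)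
    [Module.IsTorsionFree V A] (j : ℕ) :
    ∀ (M : Type u) [AddCommGroup M] [Module A M] [Module V M] [IsScalarTower V A M] [Module.Finite A M]
      [Module.IsTorsionFree V M] (M' : Type u) [AddCommGroup M'] [Module A M'] [Module S M'] [IsScalarTower A S M']
      (q : M →ₗ[A] M'), Function.Surjective q → (∀ m, q m = 0 ↔ ∃ π ∈ maximalIdeal V, ∃ y, m = π • y) →
      PdLE S M' j → PdLE A M j := by
  classical
  intro M _ _ _ _ _ _ M' _ _ _ _ q hq hqker hpd
  induction j generalizing M M' with
  | zero =>
    rw [pdLE_zero_iff] at hpd ⊢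
    haveI : Module.Finite A M' := Module.Finite.of_surjective q hq
    haveI : Module.Finite S M' := Module.Finite.of_restrictScalars_finite A S M'
    haveI : Module.Free S M' := Module.free_of_flat_of_isLocalRing
    let b := Module.Free.chooseBasis S M'
    choose m hm using fun i => hq (b i)
    let f : (Module.Free.ChooseBasisIndex S M' →₀ A) →ₗ[A] M := Finsupp.linearCombination A m
    have hfq : ∀ w, q (f w) = Finsupp.linearCombination S b (w.mapRange (algebraMap A S) (map_zero _)) := by
      intro w
      induction w using Finsupp.induction_linear with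
      | zero => simp
      | add a c ha hc => rw [map_add, map_add, ha, hc, Finsupp.mapRange_add (map_add _), map_add]
      | single i a =>
        rw [Finsupp.linearCombination_single, Finsupp.mapRange_single, Finsupp.linearCombination_single, map_smul,
          hm, algebraMap_smul]
    have hfs : Function.Surjective f := by
      rw [← LinearMap.range_eq_top, eq_top_iff]
      refine Submodule.le_of_le_smul_of_le_jacobson_bot (I := maximalIdeal A) Module.Finite.fg_top
        (maximalIdeal_le_jacobson _) fun x _ => ?_
      obtain ⟨w', hw'⟩ : ∃ w, q (f w) = q x := by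
        obtain ⟨c, hc⟩ : ∃ c, Finsupp.linearCombination S b c = q x := ⟨b.repr (q x), b.linearCombination_repr _⟩
        obtain ⟨w, rfl⟩ := Finsupp.mapRange_surjective (algebraMap A S) (map_zero _) hS c
        exact ⟨w, by rw [hfq, hc]⟩
      rw [← sub_eq_zero, ← map_sub, hqker] at hw'
      obtain ⟨π, hπ, y, hy⟩ := hw'
      rw [show x = f w' - π • y by rw [← hy, sub_sub_cancel]]
      refine Submodule.mem_sup.mpr ⟨f w', ⟨w', rfl⟩, -(π • y), ?_, by rw [sub_eq_add_neg]⟩
      rw [← algebraMap_smul A π y]
      exact neg_mem (Submodule.smul_mem_smul (map_nonunit (algebraMap V A) π hπ) Submodule.mem_top)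
    haveI := finitePresentation_local V A M
    have hfker := Module.FinitePresentation.fg_ker f hfs
    have hle : LinearMap.ker f ≤ maximalIdeal A • LinearMap.ker f := fun w hw => by
      have h1 : Finsupp.linearCombination S b (w.mapRange (algebraMap A S) (map_zero _)) = 0 := by
        rw [← hfq, LinearMap.mem_ker.mp hw, map_zero]
      have h2 := linearIndependent_iff.mp b.linearIndependent _ h1
      choose π hπ c hc using fun i => (hker (w i)).mp (by simpa using DFunLike.congr_fun h2 i)
      -- one constant dividing all
      obtain ⟨ρ, hρ, z, hz⟩ := exists_smul_of_mem_smul_top (J := maximalIdeal V)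
        (show w ∈ maximalIdeal V • (⊤ : Submodule V (Module.Free.ChooseBasisIndex S M' →₀ A)) by
          rw [← w.sum_single]
          refine sum_mem fun i _ => ?_
          rw [hc i, ← Finsupp.smul_single]
          exact Submodule.smul_mem_smul (hπ i) Submodule.mem_top)
      rcases eq_or_ne ρ 0 with rfl | hρ0
      · rw [hz, zero_smul]; exact zero_mem _
      rw [hz, ← algebraMap_smul A ρ z]
      refine Submodule.smul_mem_smul (map_nonunit (algebraMap V A) ρ hρ) ?_
      rw [hz, LinearMap.mem_ker, LinearMap.map_smul_of_tower, smul_eq_zero] at hw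
      exact hw.resolve_left hρ0
    have hinj : Function.Injective f := LinearMap.ker_eq_bot.mp
      (Submodule.eq_bot_of_le_smul_of_le_jacobson_bot _ _ hfker hle (maximalIdeal_le_jacobson _))
    exact Module.Projective.of_equiv (LinearEquiv.ofBijective f ⟨hinj, hfs⟩)
  | succ j ih =>
    obtain ⟨r, f, hf⟩ := Module.Finite.exists_fin' A M
    haveI := finitePresentation_local V A M
    haveI : Module.Finite A (LinearMap.ker f) := Module.Finite.iff_fg.mpr (Module.FinitePresentation.fg_ker f hf)
    haveI : Module.IsTorsionFree V (LinearMap.ker f) :=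
      Function.Injective.moduleIsTorsionFree (Subtype.val : LinearMap.ker f → _) Subtype.val_injective fun _ _ => rfl
    let c : (Fin r → A) →ₗ[A] (Fin r → S) := LinearMap.pi fun i => (Algebra.linearMap A S).comp (LinearMap.proj i)
    have hc : ∀ w i, c w i = algebraMap A S (w i) := fun _ _ => rfl
    let f' : (Fin r → S) →ₗ[S] M' := Fintype.linearCombination S fun i => q (f (Pi.single i 1))
    have hcomm : ∀ w, f' (c w) = q (f w) := fun w => by
      conv_rhs => rw [pi_eq_sum_univ' w, map_sum, map_sum]
      simp only [f', Fintype.linearCombination_apply, hc, map_smul, algebraMap_smul]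
    have hcsurj : Function.Surjective c := fun v => by
      choose w hw using fun i => hS (v i)
      exact ⟨w, funext hw⟩
    have hf' : Function.Surjective f' := fun v => by
      obtain ⟨m, rfl⟩ := hq v
      obtain ⟨w, rfl⟩ := hf m
      exact ⟨c w, hcomm w⟩
    let g : LinearMap.ker f →ₗ[A] LinearMap.ker f' :=
      (c.comp (LinearMap.ker f).subtype).codRestrict ((LinearMap.ker f').restrictScalars A) fun w => by
        change f' (c w.1) = 0
        rw [hcomm, LinearMap.mem_ker.mp w.2, map_zero]
    have hcker : ∀ w, c w = 0 ↔ ∃ π ∈ maximalIdeal V, ∃ z, w = π • z := by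
      intro w
      constructor
      · intro h
        choose π hπ b hb using fun i => (hker (w i)).mp (congrFun h i)
        refine exists_smul_of_mem_smul_top ?_
        rw [pi_eq_sum_univ' w]
        refine sum_mem fun i _ => ?_
        rw [hb i, smul_assoc]
        exact Submodule.smul_mem_smul (hπ i) Submodule.mem_top
      · rintro ⟨π, hπ, z, rfl⟩
        funext i
        exact (hker _).mpr ⟨π, hπ, z i, rfl⟩
    refine (pdLE_succ_iff f hf j).mpr (ih _ _ g (fun v => ?_) (fun w => ⟨fun h => ?_, ?_⟩) ((pdLE_succ_iff f' hf' j).mp hpd))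
    · obtain ⟨w, hw⟩ := hcsurj v.1
      have h0 : q (f w) = 0 := by rw [← hcomm, hw]; exact v.2
      obtain ⟨π, hπ, y, hy⟩ := (hqker _).mp h0
      obtain ⟨z, rfl⟩ := hf y
      refine ⟨⟨w - π • z, by rw [LinearMap.mem_ker, map_sub, LinearMap.map_smul_of_tower, hy, sub_self]⟩, Subtype.ext ?_⟩
      change c (w - π • z) = v.1
      rw [map_sub, (hcker (π • z)).mpr ⟨π, hπ, z, rfl⟩, sub_zero, hw]
    · obtain ⟨π, hπ, z, hz⟩ := (hcker w.1).mp (congrArg Subtype.val h)
      rcases eq_or_ne π 0 with rfl | hπ0
      · exact ⟨0, zero_mem _, 0, Subtype.ext (by rw [hz, zero_smul, zero_smul]; rfl)⟩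
      have hz0 : π • f z = 0 := by rw [← LinearMap.map_smul_of_tower, ← hz]; exact w.2
      exact ⟨π, hπ, ⟨z, (smul_eq_zero.mp hz0).resolve_left hπ0⟩, Subtype.ext hz⟩
    · rintro ⟨π, hπ, z, rfl⟩
      exact Subtype.ext ((hcker _).mpr ⟨π, hπ, z.1, rfl⟩)

end Local

section Fibre

variable (V : Type u) [CommRing V] [IsDomain V] [ValuationRing V] (B : Type u) [CommRing B] [Algebra V B]
  [Module.Flat V B] [Algebra.FinitePresentation V B] (q : Ideal B) [q.IsPrime] (n : ℕ)

/-- Finite modules torsion-free over `V` over a local ring with regular fibre. -/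
theorem pdLE_fibreDim
    (hreg : IsRegularLocalRing (Localization.AtPrime q ⧸ Ideal.map (algebraMap V (Localization.AtPrime q)) (Ideal.comap (algebraMap V B) q)))
    (hn : ringKrullDim (Localization.AtPrime q ⧸ Ideal.map (algebraMap V (Localization.AtPrime q)) (Ideal.comap (algebraMap V B) q)) = n)
    (M : Type u) [AddCommGroup M] [Module (Localization.AtPrime q) M] [Module.Finite (Localization.AtPrime q) M]
    [Module V M] [IsScalarTower V (Localization.AtPrime q) M] [Module.IsTorsionFree V M] :
    PdLE (Localization.AtPrime q) M n ∧ Module.FinitePresentation (Localization.AtPrime q) M := by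
  let A := Localization.AtPrime q
  let p := q.comap (algebraMap V B)
  let V' := Localization.AtPrime p
  haveI : q.LiesOver p := ⟨rfl⟩
  letI := Localization.AtPrime.algebraOfLiesOver p q
  haveI : IsDomain V' := IsLocalization.isDomain_localization p.primeCompl_le_nonZeroDivisors
  haveI : ValuationRing V' := valuationRing_localization V p
  haveI : IsLocalHom (algebraMap V' A) := Localization.isLocalHom_localRingHom p q (algebraMap V B) rfl
  haveI : Algebra.EssFiniteType V A := Algebra.EssFiniteType.comp V B A
  haveI : Algebra.EssFiniteType V' A := Algebra.EssFiniteType.of_comp V V' A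
  letI : Module V' M := Module.compHom M (algebraMap V' A)
  haveI : IsScalarTower V' A M := IsScalarTower.of_algebraMap_smul fun _ _ => rfl
  haveI : IsScalarTower V V' M := IsScalarTower.of_algebraMap_smul fun v m => by
    change algebraMap V' A (algebraMap V V' v) • m = v • m
    rw [← IsScalarTower.algebraMap_apply, algebraMap_smul]
  have htors : ∀ (N : Type u) [AddCommGroup N] [Module V N] [Module V' N] [IsScalarTower V V' N]
      [Module.IsTorsionFree V N], Module.IsTorsionFree V' N := by
    intro N _ _ _ _ _
    refine ⟨fun c hc x₁ x₂ hx => sub_eq_zero.mp ?_⟩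
    have hx' : c • (x₁ - x₂) = 0 := by rw [smul_sub]; exact sub_eq_zero.mpr hx
    obtain ⟨a, s, rfl⟩ := IsLocalization.exists_mk'_eq p.primeCompl c
    have ha : a ≠ 0 := fun h => hc.ne_zero (by rw [h, IsLocalization.mk'_zero])
    have h2 : a • (x₁ - x₂) = 0 := by
      rw [← algebraMap_smul V' a (x₁ - x₂), ← IsLocalization.mk'_spec V' a s, mul_comm, mul_smul, hx', smul_zero]
    exact (smul_eq_zero.mp h2).resolve_left ha
  haveI : Module.Flat V A := Module.Flat.trans V B A
  haveI := htors M
  haveI := htors A
  refine ⟨?_, finitePresentation_local V' A M⟩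
  let I : Ideal A := Ideal.map (algebraMap V A) p
  have hI : I = (maximalIdeal V').map (algebraMap V' A) := by
    rw [← Localization.AtPrime.map_eq_maximalIdeal, Ideal.map_map, ← IsScalarTower.algebraMap_eq]
  have hmem : ∀ (N : Type u) [AddCommGroup N] [Module A N] [Module V' N] [IsScalarTower V' A N] (x : N),
      x ∈ I • (⊤ : Submodule A N) ↔ ∃ π ∈ maximalIdeal V', ∃ y : N, x = π • y := by
    intro N _ _ _ _ x
    rw [hI, ← Submodule.restrictScalars_mem V', Ideal.smul_restrictScalars, Submodule.restrictScalars_top]
    refine ⟨fun h => exists_smul_of_mem_smul_top h, ?_⟩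
    rintro ⟨π, hπ, y, rfl⟩
    exact Submodule.smul_mem_smul hπ Submodule.mem_top
  haveI : IsRegularLocalRing (A ⧸ I) := hreg
  refine pdLE_of_red (V := V') (S := A ⧸ I) Ideal.Quotient.mk_surjective (fun a => ?_) n M
    (M ⧸ I • (⊤ : Submodule A M)) (Submodule.mkQ _) (Submodule.mkQ_surjective _) (fun m => ?_)
    (pdLE_of_isRegularLocalRing (A ⧸ I) n hn _)
  · rw [Ideal.Quotient.algebraMap_eq, Ideal.Quotient.eq_zero_iff_mem, ← hmem A a]
    simp
  · rw [Submodule.mkQ_apply, Submodule.Quotient.mk_eq_zero]
    exact hmem M m

/-- Finitely presented modules over a local ring with regular fibre of dimension `n` have `pd ≤ n + 1`. -/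
theorem pdLE_fibreDim_succ
    (hreg : IsRegularLocalRing (Localization.AtPrime q ⧸ Ideal.map (algebraMap V (Localization.AtPrime q)) (Ideal.comap (algebraMap V B) q)))
    (hn : ringKrullDim (Localization.AtPrime q ⧸ Ideal.map (algebraMap V (Localization.AtPrime q)) (Ideal.comap (algebraMap V B) q)) = n)
    (M : Type u) [AddCommGroup M] [Module (Localization.AtPrime q) M] [Module.FinitePresentation (Localization.AtPrime q) M] :
    PdLE (Localization.AtPrime q) M (n + 1) := by
  let A := Localization.AtPrime q
  obtain ⟨r, f, hf⟩ := Module.Finite.exists_fin' A M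
  haveI : Module.Finite A (LinearMap.ker f) := Module.Finite.iff_fg.mpr (Module.FinitePresentation.fg_ker f hf)
  haveI : Module.Flat V A := Module.Flat.trans V B A
  haveI : Module.Flat V (Fin r → A) := Module.Flat.trans V A (Fin r → A)
  haveI : Module.IsTorsionFree V (LinearMap.ker f) :=
    Function.Injective.moduleIsTorsionFree (Subtype.val : LinearMap.ker f → _) Subtype.val_injective fun _ _ => rfl
  exact (pdLE_succ_iff f hf n).mpr (pdLE_fibreDim V B q n hreg hn _).1

/-- Finitely presented reflexive modules have `pd ≤ n - 1`. -/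
theorem pdLE_fibreDim_pred
    (hreg : IsRegularLocalRing (Localization.AtPrime q ⧸ Ideal.map (algebraMap V (Localization.AtPrime q)) (Ideal.comap (algebraMap V B) q)))
    (hn : ringKrullDim (Localization.AtPrime q ⧸ Ideal.map (algebraMap V (Localization.AtPrime q)) (Ideal.comap (algebraMap V B) q)) = n)
    (M : Type u) [AddCommGroup M] [Module (Localization.AtPrime q) M] [Module.FinitePresentation (Localization.AtPrime q) M]
    [Module.IsReflexive (Localization.AtPrime q) M] :
    PdLE (Localization.AtPrime q) M (n - 1) := by
  let A := Localization.AtPrime q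
  haveI : Module.Flat V A := Module.Flat.trans V B A
  have hsub : ∀ (F : Type u) [AddCommGroup F] [Module A F] [Module V F] [IsScalarTower V A F] [Module.Flat A F]
      (N : Submodule A F), N.FG → Module.FinitePresentation A N := by
    intro F _ _ _ _ _ N hN
    haveI : Module.Finite A N := Module.Finite.iff_fg.mpr hN
    haveI : Module.Flat V F := Module.Flat.trans V A F
    haveI : Module.IsTorsionFree V N :=
      Function.Injective.moduleIsTorsionFree (Subtype.val : N → _) Subtype.val_injective fun _ _ => rfl
    exact (pdLE_fibreDim V B q n hreg hn _).2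
  have hker : ∀ (r s : ℕ) (l : (Fin s → A) →ₗ[A] (Fin r → A)), (LinearMap.ker l.dualMap).FG := by
    intro r s l
    haveI := hsub (Module.Dual A (Fin s → A)) (LinearMap.range l.dualMap) (by
      rw [LinearMap.range_eq_map]; exact Module.Finite.fg_top.map _)
    let t : Module.Dual A (Fin r → A) →ₗ[A] LinearMap.range l.dualMap := l.dualMap.rangeRestrict
    haveI : Module.Finite A (Module.Dual A (Fin r → A)) := inferInstance
    have := @Module.FinitePresentation.fg_ker A (Module.Dual A (Fin r → A)) (LinearMap.range l.dualMap) _ _ _ _ _ _ _ t l.dualMap.surjective_rangeRestrict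
    rwa [show LinearMap.ker t = LinearMap.ker l.dualMap from LinearMap.ker_rangeRestrict _] at this
  -- presentation of the dual of a finitely presented module
  have hdual : ∀ (N : Type u) [AddCommGroup N] [Module A N] [Module.FinitePresentation A N],
      ∃ (r s : ℕ) (l : (Fin s → A) →ₗ[A] (Fin r → A)), Nonempty (Module.Dual A N ≃ₗ[A] LinearMap.ker l.dualMap) := by
    intro N _ _ _
    obtain ⟨r, f, hf⟩ := Module.Finite.exists_fin' A N
    haveI : Module.Finite A (LinearMap.ker f) := Module.Finite.iff_fg.mpr (Module.FinitePresentation.fg_ker f hf)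
    obtain ⟨s, g, hg⟩ := Module.Finite.exists_fin' A (LinearMap.ker f)
    refine ⟨r, s, (LinearMap.ker f).subtype.comp g, ⟨(LinearEquiv.ofInjective f.dualMap
      (LinearMap.dualMap_injective_of_surjective hf)).trans (LinearEquiv.ofEq _ _ ?_)⟩⟩
    rw [LinearMap.range_dualMap_eq_dualAnnihilator_ker_of_surjective f hf, LinearMap.ker_dualMap_eq_dualAnnihilator_range,
      LinearMap.range_comp, LinearMap.range_eq_top.mpr hg, Submodule.map_top, Submodule.range_subtype]
  obtain ⟨r, s, l, ⟨e⟩⟩ := hdual M
  haveI := hsub _ _ (hker r s l)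
  obtain ⟨a, b, l', ⟨e'⟩⟩ := hdual (LinearMap.ker l.dualMap)
  let eM : M ≃ₗ[A] LinearMap.ker l'.dualMap := ((Module.evalEquiv A M).trans e.symm.dualMap).trans e'
  refine pdLE_of_equiv (R := A) (M := LinearMap.ker l'.dualMap) (N := M) eM.symm ?_
  let G := Module.Dual A (Fin b → A)
  let I : Submodule A G := LinearMap.range l'.dualMap
  have hI : I.FG := by
    change (LinearMap.range _).FG
    rw [LinearMap.range_eq_map]
    exact Module.Finite.fg_top.map _
  haveI : Module.FinitePresentation A G := Module.finitePresentation_of_projective A G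
  haveI : Module.FinitePresentation A (G ⧸ I) :=
    Module.finitePresentation_of_surjective I.mkQ I.mkQ_surjective (by rw [Submodule.ker_mkQ]; exact hI)
  have h1 := (pdLE_succ_iff I.mkQ I.mkQ_surjective n).mp (pdLE_fibreDim_succ V B q n hreg hn (G ⧸ I))
  rw [Submodule.ker_mkQ] at h1
  have h2 : PdLE A I (n - 1 + 1) := pdLE_mono (by omega) h1
  have h3 := (pdLE_succ_iff l'.dualMap.rangeRestrict l'.dualMap.surjective_rangeRestrict (n - 1)).mp h2
  rwa [LinearMap.ker_rangeRestrict] at h3

end Fibre

end Groth.Agent.ValFP
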