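import Groth.Agent.ValFP.Coherent

/-!
# Flatness and finite presentation over semi-valuation rings

`O ⊆ A` with an ideal `P` of `O` which is an ideal of `A`, and `O ⧸ P` a valuation ring. An algebra `C` of finite
type over `O` with `C ⊆ A ⊗ C` and `A ⊗ C` flat and finitely presented over `A` is flat and finitely presented.
-/

set_option autoImplicit false
set_option linter.style.haveILetI false
set_option maxRecDepth 4000

universe u

namespace Groth.Agent.ValFP

open TensorProduct

variable {O : Type u} [CommRing O]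

/-- Injective maps of `T`-modules stay injective after tensoring over `O` with a module whose base change is flat. -/
theorem rTensor_restrictScalars_injective {T : Type u} [CommRing T] [Algebra O T] (C : Type u) [AddCommGroup C]
    [Module O C] [Module.Flat T (T ⊗[O] C)] {N' N : Type u} [AddCommGroup N'] [Module T N'] [Module O N']
    [IsScalarTower O T N'] [AddCommGroup N] [Module T N] [Module O N] [IsScalarTower O T N] (g : N' →ₗ[T] N)
    (hg : Function.Injective g) : Function.Injective ((g.restrictScalars O).rTensor C) := by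
  let e' := AlgebraTensorModule.cancelBaseChange O T T N' C
  let e := AlgebraTensorModule.cancelBaseChange O T T N C
  have h : ∀ x, (g.restrictScalars O).rTensor C (e' x) = e (g.rTensor (T ⊗[O] C) x) := by
    intro x
    induction x using TensorProduct.induction_on with
    | zero => simp
    | add a b ha hb => simp only [map_add, ha, hb]
    | tmul n y =>
      induction y using TensorProduct.induction_on with
      | zero => simp
      | add a b ha hb => simp only [tmul_add, map_add, ha, hb]
      | tmul t c =>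
        rw [LinearMap.rTensor_tmul, AlgebraTensorModule.cancelBaseChange_tmul,
          AlgebraTensorModule.cancelBaseChange_tmul, LinearMap.rTensor_tmul, LinearMap.restrictScalars_apply,
          map_smul]
  intro x y hxy
  obtain ⟨x, rfl⟩ := e'.surjective x
  obtain ⟨y, rfl⟩ := e'.surjective y
  rw [h, h] at hxy
  exact congrArg e' (Module.Flat.rTensor_preserves_injective_linearMap g hg (e.injective hxy))

section Extension

variable (P : Ideal O) (C : Type u) [AddCommGroup C] [Module O C]

theorem injective_mul_tensor (hm : Function.Injective (P.subtype.rTensor C)) (F : Type u) [AddCommGroup F]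
    [Module O F] [Module.Flat O F] :
    Function.Injective (((TensorProduct.lid O F).toLinearMap ∘ₗ P.subtype.rTensor F).rTensor C) := by
  let μ : ↥P ⊗[O] C →ₗ[O] C := (TensorProduct.lid O C).toLinearMap ∘ₗ P.subtype.rTensor C
  have hμ : Function.Injective μ := (TensorProduct.lid O C).injective.comp hm
  have h : ((TensorProduct.lid O F).toLinearMap ∘ₗ P.subtype.rTensor F).rTensor C =
      (TensorProduct.comm O C F).toLinearMap ∘ₗ μ.rTensor F ∘ₗ (TensorProduct.rightComm O ↥P F C).toLinearMap := by
    refine TensorProduct.ext' fun z c => ?_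
    induction z using TensorProduct.induction_on with
    | zero => simp
    | add a b ha hb => simp only [add_tmul, map_add, ha, hb]
    | tmul p x => simp [μ, smul_tmul]
  rw [h]
  exact (TensorProduct.comm O C F).injective.comp
    ((Module.Flat.rTensor_preserves_injective_linearMap μ hμ).comp (TensorProduct.rightComm O ↥P F C).injective)

theorem rTensor_subtype_injective (hm : Function.Injective (P.subtype.rTensor C))
    [Module.Flat (O ⧸ P) ((O ⧸ P) ⊗[O] C)] (F : Type u) [AddCommGroup F] [Module O F] [Module.Flat O F]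
    (K : Submodule O F) (hK : P • ⊤ ≤ K) : Function.Injective (K.subtype.rTensor C) := by
  let T := O ⧸ P
  let q : F →ₗ[O] F ⧸ (P • ⊤ : Submodule O F) := Submodule.mkQ _
  let μ : ↥P ⊗[O] F →ₗ[O] F := (TensorProduct.lid O F).toLinearMap ∘ₗ P.subtype.rTensor F
  have hqμ : Function.Exact μ q := by
    intro x
    rw [Submodule.mkQ_apply, Submodule.Quotient.mk_eq_zero]
    constructor
    · intro hx
      refine Submodule.smul_induction_on hx (fun r hr w _ => ⟨⟨r, hr⟩ ⊗ₜ[O] w, rfl⟩) ?_
      rintro _ _ ⟨z, rfl⟩ ⟨z', rfl⟩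
      exact ⟨z + z', map_add μ z z'⟩
    · rintro ⟨z, rfl⟩
      induction z using TensorProduct.induction_on with
      | zero => rw [map_zero]; exact zero_mem _
      | add a b ha hb => rw [map_add]; exact add_mem ha hb
      | tmul p x => exact Submodule.smul_mem_smul p.2 Submodule.mem_top
  let Kb : Submodule T (F ⧸ (P • ⊤ : Submodule O F)) :=
    { carrier := q '' (K : Set F)
      zero_mem' := ⟨0, K.zero_mem, map_zero q⟩
      add_mem' := by
        rintro _ _ ⟨a, ha, rfl⟩ ⟨b, hb, rfl⟩
        exact ⟨a + b, K.add_mem ha hb, map_add q a b⟩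
      smul_mem' := by
        rintro t _ ⟨a, ha, rfl⟩
        obtain ⟨r, rfl⟩ := Ideal.Quotient.mk_surjective t
        exact ⟨r • a, K.smul_mem r ha, by
          rw [map_smul, ← algebraMap_smul T r (q a)]; rfl⟩ }
  let qK : K →ₗ[O] Kb :=
    { toFun := fun k => ⟨q k.1, k.1, k.2, rfl⟩
      map_add' := fun a b => Subtype.ext (map_add q a.1 b.1)
      map_smul' := fun r a => Subtype.ext (map_smul q r a.1) }
  have hμK : ∀ z, μ z ∈ K := fun z => by
    induction z using TensorProduct.induction_on with
    | zero => rw [map_zero]; exact K.zero_mem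
    | add a b ha hb => rw [map_add]; exact K.add_mem ha hb
    | tmul p x => exact hK (Submodule.smul_mem_smul p.2 Submodule.mem_top)
  let μK : ↥P ⊗[O] F →ₗ[O] K := μ.codRestrict K hμK
  have hex : Function.Exact μK qK := by
    intro k
    constructor
    · intro h
      obtain ⟨z, hz⟩ := (hqμ k.1).mp (congrArg Subtype.val h)
      exact ⟨z, Subtype.ext hz⟩
    · rintro ⟨z, rfl⟩
      exact Subtype.ext ((hqμ _).mpr ⟨z, rfl⟩)
  have hqK : Function.Surjective qK := by
    rintro ⟨_, a, ha, rfl⟩
    exact ⟨⟨a, ha⟩, rfl⟩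
  rw [injective_iff_map_eq_zero]
  intro y hy
  let g : Kb →ₗ[O] F ⧸ (P • ⊤ : Submodule O F) := Kb.subtype.restrictScalars O
  have hcomp : g ∘ₗ qK = q ∘ₗ K.subtype := LinearMap.ext fun k => rfl
  have hginj : Function.Injective (g.rTensor C) :=
    rTensor_restrictScalars_injective (T := T) (N' := Kb) (O := O) (N := F ⧸ (P • ⊤ : Submodule O F)) C Kb.subtype Kb.injective_subtype
  have h1 : g.rTensor C (qK.rTensor C y) = g.rTensor C 0 := by
    rw [← LinearMap.comp_apply, ← LinearMap.rTensor_comp, hcomp, LinearMap.rTensor_comp, LinearMap.comp_apply, hy,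
      map_zero, map_zero]
  have h2 : qK.rTensor C y = 0 := hginj h1
  obtain ⟨z, rfl⟩ := (rTensor_exact C hex hqK y).mp h2
  rw [← LinearMap.comp_apply, ← LinearMap.rTensor_comp, show K.subtype ∘ₗ μK = μ from LinearMap.ext fun _ => rfl] at hy
  rw [show z = 0 from injective_mul_tensor P C hm F (by rw [hy, map_zero]), map_zero]

/-- Injective maps with cokernel killed by `P` stay injective after tensoring with `C`. -/
theorem rTensor_injective_of_smul_mem_range (hm : Function.Injective (P.subtype.rTensor C))
    [Module.Flat (O ⧸ P) ((O ⧸ P) ⊗[O] C)] {M' M : Type u} [AddCommGroup M'] [Module O M'] [AddCommGroup M]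
    [Module O M] (f : M' →ₗ[O] M) (hf : Function.Injective f) (hP : ∀ x ∈ P, ∀ y, ∃ z, f z = x • y) :
    Function.Injective (f.rTensor C) := by
  classical
  let π : (M →₀ O) →ₗ[O] M := Finsupp.linearCombination O id
  have hπ : Function.Surjective π := Finsupp.linearCombination_id_surjective O M
  let K : Submodule O (M →₀ O) := (LinearMap.range f).comap π
  let π' : K →ₗ[O] M' := (LinearEquiv.ofInjective f hf).symm.toLinearMap ∘ₗ
    π.restrict (p := K) (q := LinearMap.range f) fun x hx => hx
  have hfπ : ∀ k, f (π' k) = π k.1 := fun k => by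
    change ((LinearEquiv.ofInjective f hf) ((LinearEquiv.ofInjective f hf).symm _)).1 = _
    rw [LinearEquiv.apply_symm_apply]
    rfl
  have hπ' : Function.Surjective π' := fun m => by
    obtain ⟨w, hw⟩ := hπ (f m)
    exact ⟨⟨w, ⟨m, hw.symm⟩⟩, hf (by rw [hfπ, hw])⟩
  have hle : LinearMap.ker π ≤ K := fun x hx => by
    rw [Submodule.mem_comap, LinearMap.mem_ker.mp hx]; exact zero_mem _
  let ι : LinearMap.ker π →ₗ[O] K := Submodule.inclusion hle
  have hπι : π' ∘ₗ ι = 0 := LinearMap.ext fun k => hf (by
    rw [LinearMap.comp_apply, hfπ, LinearMap.zero_apply, map_zero]; exact k.2)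
  rw [injective_iff_map_eq_zero]
  intro x hx
  obtain ⟨y, rfl⟩ := LinearMap.rTensor_surjective C hπ' x
  rw [← LinearMap.comp_apply, ← LinearMap.rTensor_comp,
    show f ∘ₗ π' = π ∘ₗ K.subtype from LinearMap.ext hfπ, LinearMap.rTensor_comp, LinearMap.comp_apply] at hx
  let ι0 : LinearMap.ker π →ₗ[O] (M →₀ O) := (LinearMap.ker π).subtype
  have hex0 : Function.Exact ι0 π := LinearMap.exact_subtype_ker_map π
  obtain ⟨z, hz⟩ := (rTensor_exact (M := ↥(LinearMap.ker π)) (N := M →₀ O) (P := M) (f := ι0) (g := π) C hex0 hπ _).mp hx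
  have h0 : y = ι.rTensor C z := by
    apply rTensor_subtype_injective P C hm (M →₀ O) K (Submodule.smul_le.mpr fun r hr w _ => by
      obtain ⟨m, hm⟩ := hP r hr (π w)
      exact ⟨m, by rw [hm, map_smul]⟩)
    rw [← hz, ← LinearMap.comp_apply (f := K.subtype.rTensor C), ← LinearMap.rTensor_comp,
      show K.subtype ∘ₗ ι = ι0 from LinearMap.ext fun _ => rfl]
  rw [h0, ← LinearMap.comp_apply, ← LinearMap.rTensor_comp, hπι, LinearMap.rTensor_zero, LinearMap.zero_apply]

end Extension

section SemiVal

open MvPolynomial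

variable {A : Type u} [CommRing A] [Algebra O A] (P : Ideal O) {C : Type u} [CommRing C] [Algebra O C]

/-- `P (A ⊗ C) = P C` inside `A ⊗ C`. -/
theorem mem_of_mem_map_tensor (hPA : ∀ x ∈ P, ∀ a : A, ∃ y ∈ P, algebraMap O A y = algebraMap O A x * a)
    (z : A ⊗[O] C) (hz : z ∈ P.map (algebraMap O (A ⊗[O] C))) :
    ∃ c ∈ P.map (algebraMap O C), (1 : A) ⊗ₜ[O] c = z := by
  have key : ∀ x ∈ P, ∀ w : A ⊗[O] C, ∃ c ∈ P.map (algebraMap O C), (1 : A) ⊗ₜ[O] c = x • w := by
    intro x hx w
    induction w using TensorProduct.induction_on with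
    | zero => exact ⟨0, zero_mem _, by rw [tmul_zero, smul_zero]⟩
    | add a b ha hb =>
      obtain ⟨c, hc, h⟩ := ha
      obtain ⟨d, hd, h'⟩ := hb
      exact ⟨c + d, add_mem hc hd, by rw [tmul_add, h, h', smul_add]⟩
    | tmul a c =>
      obtain ⟨y, hy, hxa⟩ := hPA x hx a
      refine ⟨algebraMap O C y * c, Ideal.mul_mem_right _ _ (Ideal.mem_map_of_mem _ hy), ?_⟩
      rw [← Algebra.smul_def, ← smul_tmul, smul_tmul', Algebra.smul_def, Algebra.smul_def, mul_one, hxa]
  rw [← Submodule.restrictScalars_mem O, ← Ideal.smul_top_eq_map] at hz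
  refine Submodule.smul_induction_on hz (fun x hx w _ => key x hx w) ?_
  rintro a b ⟨c, hc, rfl⟩ ⟨d, hd, rfl⟩
  exact ⟨c + d, add_mem hc hd, by rw [tmul_add]⟩

variable (hcl : ∀ a : A, (∃ o : O, algebraMap O A o = a) ∨ ∃ o : O, a * algebraMap O A o = 1)
variable (hu : ∀ o : O, o ∉ P → IsUnit (algebraMap O A o))

include hcl hu in
theorem dvd_total_quotient (hinj : Function.Injective (algebraMap O A)) (a b : O) :
    Ideal.Quotient.mk P a ∣ Ideal.Quotient.mk P b ∨ Ideal.Quotient.mk P b ∣ Ideal.Quotient.mk P a := by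
  by_cases hb : b ∈ P
  · exact Or.inl (by rw [Ideal.Quotient.eq_zero_iff_mem.mpr hb]; exact dvd_zero _)
  obtain ⟨ub, hub⟩ := hu b hb
  rcases hcl (algebraMap O A a * ↑ub⁻¹) with ⟨o, ho⟩ | ⟨o, ho⟩
  · refine Or.inr (map_dvd _ ⟨o, hinj ?_⟩)
    rw [map_mul, ho, ← hub, mul_left_comm, Units.mul_inv, mul_one]
  · refine Or.inl (map_dvd _ ⟨o, hinj ?_⟩)
    rw [map_mul, ← hub]
    calc (ub : A) = ub * (algebraMap O A a * ↑ub⁻¹ * algebraMap O A o) := by rw [ho, mul_one]
      _ = algebraMap O A a * algebraMap O A o * (ub * ↑ub⁻¹) := by ring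
      _ = algebraMap O A a * algebraMap O A o := by rw [Units.mul_inv, mul_one]

/-- The main theorem. -/
theorem flat_and_finitePresentation (hinj : Function.Injective (algebraMap O A))
    (hPA : ∀ x ∈ P, ∀ a : A, ∃ y ∈ P, algebraMap O A y = algebraMap O A x * a)
    [P.IsPrime] (hcl : ∀ a : A, (∃ o : O, algebraMap O A o = a) ∨ ∃ o : O, a * algebraMap O A o = 1)
    (hu : ∀ o : O, o ∉ P → IsUnit (algebraMap O A o))
    [Algebra.FiniteType O C] (hadm : Function.Injective (Algebra.TensorProduct.includeRight : C →ₐ[O] A ⊗[O] C))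
    [Module.Flat A (A ⊗[O] C)] [Algebra.FinitePresentation A (A ⊗[O] C)] :
    Module.Flat O C ∧ Algebra.FinitePresentation O C := by
  classical
  let Q := O ⧸ P
  haveI : ValuationRing Q := ValuationRing.iff_dvd_total.2 ⟨fun x y => by
    obtain ⟨a, rfl⟩ := Ideal.Quotient.mk_surjective x
    obtain ⟨b, rfl⟩ := Ideal.Quotient.mk_surjective y
    exact dvd_total_quotient P hcl hu hinj a b⟩
  -- `C ⧸ P C` is torsion-free
  have htf : ∀ o, o ∉ P → ∀ c, algebraMap O C o * c ∈ P.map (algebraMap O C) → c ∈ P.map (algebraMap O C) := by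
    intro o ho c hc
    have h1 := Ideal.mem_map_of_mem (Algebra.TensorProduct.includeRight : C →ₐ[O] A ⊗[O] C).toRingHom hc
    rw [Ideal.map_map, AlgHom.toRingHom_eq_coe, AlgHom.comp_algebraMap, RingHom.coe_coe, map_mul,
      AlgHom.commutes] at h1
    have h2 : IsUnit (algebraMap O (A ⊗[O] C) o) := by
      rw [IsScalarTower.algebraMap_apply O A (A ⊗[O] C)]
      exact (hu o ho).map _
    rw [Ideal.unit_mul_mem_iff_mem _ h2] at h1
    obtain ⟨d, hd, hd'⟩ := mem_of_mem_map_tensor P hPA _ h1
    rwa [show c = d from hadm hd'.symm]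
  constructor
  · -- flatness
    haveI : Module.Flat Q (Q ⊗[O] C) := by
      rw [Module.Flat.flat_iff_torsion_eq_bot_of_isBezout, eq_bot_iff]
      intro z hz
      obtain ⟨⟨t, ht⟩, hz⟩ := (Submodule.mem_torsion_iff _).mp hz
      obtain ⟨c, rfl⟩ := TensorProduct.mk_surjective O C Q Ideal.Quotient.mk_surjective z
      obtain ⟨o, rfl⟩ := Ideal.Quotient.mk_surjective t
      have ho : o ∉ P := fun h => nonZeroDivisors.ne_zero ht (Ideal.Quotient.eq_zero_iff_mem.mpr h)
      have hz' : (1 : Q) ⊗ₜ[O] (o • c) = 0 := by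
        rw [tmul_smul, ← algebraMap_smul Q o ((1 : Q) ⊗ₜ[O] c)]
        exact hz
      have key : ∀ d : C, (1 : Q) ⊗ₜ[O] d = 0 ↔ d ∈ P.map (algebraMap O C) := fun d => by
        rw [← (TensorProduct.quotTensorEquivQuotSMul C P).map_eq_zero_iff, ← map_one (Ideal.Quotient.mk P),
          TensorProduct.quotTensorEquivQuotSMul_mk_tmul, one_smul, Submodule.Quotient.mk_eq_zero,
          Ideal.smul_top_eq_map, Submodule.restrictScalars_mem]
      rw [Submodule.mem_bot]
      refine (key c).mpr (htf o ho c ?_)
      rw [← Algebra.smul_def]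
      exact (key _).mp hz'
    have hext : ∀ I : Ideal O, ∀ x ∈ P, ∀ y ∈ I.map (algebraMap O A),
        ∃ i ∈ I, algebraMap O A i = algebraMap O A x * y := by
      intro I x hx y hy
      induction hy using Submodule.span_induction generalizing x with
      | mem w hw =>
        obtain ⟨i, hi, rfl⟩ := hw
        exact ⟨x * i, I.mul_mem_left x hi, map_mul _ _ _⟩
      | zero => exact ⟨0, zero_mem _, by rw [map_zero, mul_zero]⟩
      | add a b _ _ ha hb =>
        obtain ⟨i, hi, h⟩ := ha x hx
        obtain ⟨j, hj, h'⟩ := hb x hx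
        exact ⟨i + j, add_mem hi hj, by rw [map_add, h, h', mul_add]⟩
      | smul a w _ hw =>
        obtain ⟨x', hx', h'⟩ := hPA x hx a
        obtain ⟨i, hi, h⟩ := hw x' hx'
        exact ⟨i, hi, by rw [h, h', smul_eq_mul, mul_assoc]⟩
    let IA : Ideal O → Submodule A A := fun I => I.map (algebraMap O A)
    have hI : ∀ (I : Ideal O) (f : I →ₗ[O] IA I),
        (∀ i, (f i).1 = algebraMap O A i.1) → Function.Injective (f.rTensor C) →
          Function.Injective (I.subtype.rTensor C) := by
      intro I f hf hfinj x y hxy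
      apply hfinj
      apply rTensor_restrictScalars_injective C (IA I).subtype (Submodule.injective_subtype _)
      have h := congrArg ((Algebra.linearMap O A).rTensor C) hxy
      rw [← LinearMap.comp_apply, ← LinearMap.comp_apply, ← LinearMap.rTensor_comp] at h
      rw [← LinearMap.comp_apply, ← LinearMap.rTensor_comp, ← LinearMap.comp_apply, ← LinearMap.rTensor_comp,
        show ((IA I).subtype.restrictScalars O) ∘ₗ f = Algebra.linearMap O A ∘ₗ I.subtype from
          LinearMap.ext hf]
      exact h
    let f : ∀ I : Ideal O, I →ₗ[O] IA I := fun I =>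
      { toFun := fun i => ⟨algebraMap O A i.1, Ideal.mem_map_of_mem _ i.2⟩
        map_add' := fun i j => Subtype.ext (map_add _ _ _)
        map_smul' := fun r i => Subtype.ext (by simp [Algebra.smul_def]) }
    have hfinj : ∀ I, Function.Injective (f I) := fun I a b h => Subtype.ext (hinj (congrArg Subtype.val h))
    have hm : Function.Injective (P.subtype.rTensor C) := by
      refine hI P (f P) (fun _ => rfl) (LinearEquiv.rTensor C (LinearEquiv.ofBijective (f P) ⟨hfinj P, ?_⟩)).injective
      rintro ⟨y, hy⟩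
      change y ∈ P.map (algebraMap O A) at hy
      suffices ∃ p ∈ P, algebraMap O A p = y by
        obtain ⟨p, hp, rfl⟩ := this
        exact ⟨⟨p, hp⟩, rfl⟩
      induction hy using Submodule.span_induction with
      | mem w hw => exact hw
      | zero => exact ⟨0, zero_mem _, map_zero _⟩
      | add a b _ _ ha hb =>
        obtain ⟨i, hi, rfl⟩ := ha
        obtain ⟨j, hj, rfl⟩ := hb
        exact ⟨i + j, add_mem hi hj, map_add _ _ _⟩
      | smul a w _ hw =>
        obtain ⟨i, hi, rfl⟩ := hw
        obtain ⟨j, hj, h⟩ := hPA i hi a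
        exact ⟨j, hj, by rw [h, smul_eq_mul, mul_comm]⟩
    rw [Module.Flat.iff_rTensor_injective']
    intro I
    refine hI I (f I) (fun _ => rfl) (rTensor_injective_of_smul_mem_range P C hm _ (hfinj I) fun x hx y => ?_)
    obtain ⟨i, hi, h⟩ := hext I x hx y.1 y.2
    exact ⟨⟨i, hi⟩, Subtype.ext (h.trans (Algebra.smul_def x y.1).symm)⟩
  · -- finite presentation
    obtain ⟨n, φ, hφ⟩ := Algebra.FiniteType.iff_quotient_mvPolynomial''.mp (inferInstance : Algebra.FiniteType O C)
    let S := MvPolynomial (Fin n) O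
    let ψ : S →+* MvPolynomial (Fin n) A := MvPolynomial.map (algebraMap O A)
    have hψ : Function.Injective ψ := MvPolynomial.map_injective _ hinj
    let φA : MvPolynomial (Fin n) A →ₐ[A] A ⊗[O] C := MvPolynomial.aeval fun i => (1 : A) ⊗ₜ[O] φ (X i)
    have hcomm : ∀ p : S, φA (ψ p) = (1 : A) ⊗ₜ[O] φ p := by
      intro p
      induction p using MvPolynomial.induction_on with
      | C a =>
        rw [map_C, aeval_C, ← MvPolynomial.algebraMap_eq, φ.commutes, Algebra.algebraMap_eq_smul_one a (A := C),
          tmul_smul, ← IsScalarTower.algebraMap_apply, Algebra.algebraMap_eq_smul_one, Algebra.TensorProduct.one_def]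
      | add a b ha hb => rw [map_add, map_add, ha, hb, map_add, tmul_add]
      | mul_X a i ha =>
        rw [map_mul, map_mul, ha, map_mul, map_X, aeval_X, Algebra.TensorProduct.tmul_mul_tmul, one_mul]
    have hφA : Function.Surjective φA := by
      intro z
      induction z using TensorProduct.induction_on with
      | zero => exact ⟨0, map_zero _⟩
      | add a b ha hb =>
        obtain ⟨a, rfl⟩ := ha
        obtain ⟨b, rfl⟩ := hb
        exact ⟨a + b, map_add _ _ _⟩
      | tmul a c =>
        obtain ⟨p, rfl⟩ := hφ c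
        exact ⟨a • ψ p, by rw [map_smul, hcomm, smul_tmul', smul_eq_mul, mul_one]⟩
    -- kernels
    let JA := RingHom.ker φA.toRingHom
    have hJA : JA.FG := Algebra.FinitePresentation.ker_fG_of_surjective φA hφA
    have hJ : ∀ p : S, φ p = 0 ↔ ψ p ∈ JA := fun p => by
      change _ ↔ φA (ψ p) = 0
      rw [hcomm]
      exact ⟨fun h => by rw [h, tmul_zero], fun h => hadm (h.trans (tmul_zero C (1 : A)).symm)⟩
    -- clearing denominators
    have hclear : ∀ h : MvPolynomial (Fin n) A, ∃ (o : O) (g : S), IsUnit (algebraMap O A o) ∧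
        ψ g = MvPolynomial.C (algebraMap O A o) * h := by
      intro h
      induction h using MvPolynomial.induction_on with
      | C a =>
        rcases hcl a with ⟨r, rfl⟩ | ⟨r, hr⟩
        · exact ⟨1, MvPolynomial.C r, by rw [map_one]; exact isUnit_one, by rw [map_C, map_one, map_one, one_mul]⟩
        · exact ⟨r, 1, IsUnit.of_mul_eq_one a (by rw [mul_comm, hr]), by rw [map_one, ← map_mul, mul_comm, hr, map_one]⟩
      | add a b ha hb =>
        obtain ⟨r, g, hr, hg⟩ := ha
        obtain ⟨r', g', hr', hg'⟩ := hb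
        refine ⟨r * r', MvPolynomial.C r' * g + MvPolynomial.C r * g', by rw [map_mul]; exact hr.mul hr', ?_⟩
        rw [map_add, map_mul, map_mul, hg, hg', map_C, map_C, map_mul, map_mul]
        ring
      | mul_X a i ha =>
        obtain ⟨r, g, hr, hg⟩ := ha
        exact ⟨r, g * X i, hr, by rw [map_mul, hg, map_X, mul_assoc]⟩
    obtain ⟨sA, hsA⟩ := hJA
    choose o g hou hg using hclear
    -- generators modulo `P`
    let qC : C →+* C ⧸ P.map (algebraMap O C) := Ideal.Quotient.mk _
    let φQ : MvPolynomial (Fin n) Q →+* C ⧸ P.map (algebraMap O C) := MvPolynomial.eval₂Hom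
      (Ideal.Quotient.lift P (qC.comp (algebraMap O C)) fun a ha =>
        Ideal.Quotient.eq_zero_iff_mem.mpr (Ideal.mem_map_of_mem _ ha)) fun i => qC (φ (X i))
    let π : S →+* MvPolynomial (Fin n) Q := MvPolynomial.map (Ideal.Quotient.mk P)
    have hπ : Function.Surjective π := MvPolynomial.map_surjective _ Ideal.Quotient.mk_surjective
    have hQ : ∀ p : S, φQ (π p) = qC (φ p) := by
      intro p
      induction p using MvPolynomial.induction_on with
      | C a => rw [map_C, eval₂Hom_C, Ideal.Quotient.lift_mk, ← MvPolynomial.algebraMap_eq, φ.commutes]; rfl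
      | add a b ha hb => simp only [map_add, ha, hb]
      | mul_X a i ha => rw [map_mul, map_mul, ha, map_mul, map_mul, map_X, eval₂Hom_X']
    letI : Algebra (MvPolynomial (Fin n) Q) (C ⧸ P.map (algebraMap O C)) := φQ.toAlgebra
    have hφQ : Function.Surjective φQ := fun z => by
      obtain ⟨c, rfl⟩ := Ideal.Quotient.mk_surjective z
      obtain ⟨p, rfl⟩ := hφ c
      exact ⟨π p, hQ p⟩
    haveI : Module.Finite (MvPolynomial (Fin n) Q) (C ⧸ P.map (algebraMap O C)) :=
      Module.Finite.of_surjective (Algebra.linearMap _ _) hφQ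
    haveI := finitePresentation_of_torsionFree (V := Q) (C ⧸ P.map (algebraMap O C)) fun t z ht hz => by
      obtain ⟨r, rfl⟩ := Ideal.Quotient.mk_surjective t
      obtain ⟨c, rfl⟩ := Ideal.Quotient.mk_surjective z
      have hz' : φQ (π (MvPolynomial.C r)) * qC c = 0 := by
        rw [← hz]
        change φQ (MvPolynomial.map (Ideal.Quotient.mk P) (MvPolynomial.C r)) * _ = _
        rw [MvPolynomial.map_C]
        exact (Algebra.smul_def _ _).symm
      rw [hQ, ← MvPolynomial.algebraMap_eq, φ.commutes, ← map_mul, Ideal.Quotient.eq_zero_iff_mem] at hz'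
      exact Ideal.Quotient.eq_zero_iff_mem.mpr
        (htf r (fun h => ht (Ideal.Quotient.eq_zero_iff_mem.mpr h)) c hz')
    obtain ⟨sQ, hsQ⟩ := Module.FinitePresentation.fg_ker (Algebra.linearMap (MvPolynomial (Fin n) Q)
      (C ⧸ P.map (algebraMap O C))) hφQ
    have hπker : RingHom.ker π = P.map MvPolynomial.C := by rw [MvPolynomial.ker_map, Ideal.mk_ker]
    have hlift : ∀ t : sQ, ∃ p : S, φ p = 0 ∧ π p = t.1 := by
      rintro ⟨t, ht⟩
      obtain ⟨p, rfl⟩ := hπ t
      have h0 : φQ (π p) = 0 := hsQ.le (Submodule.subset_span ht)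
      rw [hQ, Ideal.Quotient.eq_zero_iff_mem] at h0
      rw [show algebraMap O C = φ.toRingHom.comp (MvPolynomial.C) from φ.comp_algebraMap.symm, ← Ideal.map_map] at h0
      obtain ⟨w, hw, hw'⟩ := (Ideal.mem_map_iff_of_surjective φ.toRingHom hφ).mp h0
      refine ⟨p - w, by rw [map_sub, show φ w = φ p from hw', sub_self], ?_⟩
      rw [map_sub, show π w = 0 from RingHom.mem_ker.mp (hπker.ge hw), sub_zero]
    choose l hlφ hlπ using hlift
    let G : Finset S := sA.image g ∪ Finset.univ.image l
    let J' : Ideal S := Ideal.span (G : Set S)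
    have hJ'le : ∀ p ∈ J', φ p = 0 := fun p hp => by
      refine (Ideal.span_le (I := RingHom.ker φ.toRingHom)).mpr (fun w hw => ?_) hp
      simp only [G, Finset.coe_union, Finset.coe_image, Set.mem_union, Set.mem_image, Finset.mem_coe] at hw
      rcases hw with ⟨a, ha, rfl⟩ | ⟨t, -, rfl⟩
      · refine (hJ _).mpr ?_
        rw [hg]
        exact JA.mul_mem_left _ (hsA.le (Submodule.subset_span ha))
      · exact hlφ t
    have hJAle : JA ≤ J'.map ψ := by
      rw [← hsA, Ideal.span, Submodule.span_le]
      intro a ha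
      have h1 : ψ (g a) ∈ J'.map ψ := Ideal.mem_map_of_mem _
        (Ideal.subset_span (Finset.mem_union_left _ (Finset.mem_image_of_mem g ha)))
      rw [hg, Ideal.unit_mul_mem_iff_mem _ ((hou a).map MvPolynomial.C)] at h1
      exact h1
    have hPpoly : ∀ x ∈ P, ∀ q : MvPolynomial (Fin n) A,
        ∃ p ∈ RingHom.ker π, ψ p = MvPolynomial.C (algebraMap O A x) * q := by
      intro x hx q
      induction q using MvPolynomial.induction_on generalizing x with
      | C a =>
        obtain ⟨y, hy, h⟩ := hPA x hx a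
        exact ⟨MvPolynomial.C y, hπker.ge (Ideal.mem_map_of_mem _ hy), by rw [map_C, h, map_mul]⟩
      | add a b ha hb =>
        obtain ⟨p, hp, h⟩ := ha x hx
        obtain ⟨p', hp', h'⟩ := hb x hx
        exact ⟨p + p', add_mem hp hp', by rw [map_add, h, h', mul_add]⟩
      | mul_X a i ha =>
        obtain ⟨p, hp, h⟩ := ha x hx
        exact ⟨p * X i, Ideal.mul_mem_right _ _ hp, by rw [map_mul, h, map_X, mul_assoc]⟩
    have habs : ∀ x ∈ P, ∀ h ∈ JA, ∃ p ∈ J', ψ p = MvPolynomial.C (algebraMap O A x) * h := by
      intro x hx h hh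
      have hh' := hJAle hh
      suffices ∀ q ∈ RingHom.ker π, ∃ p ∈ J', ψ p = ψ q * h by
        obtain ⟨p, hp, he⟩ := this (MvPolynomial.C x) (hπker.ge (Ideal.mem_map_of_mem _ hx))
        exact ⟨p, hp, by rw [he, map_C]⟩
      clear hh
      induction hh' using Submodule.span_induction with
      | mem w hw =>
        obtain ⟨w, hw, rfl⟩ := hw
        exact fun q _ => ⟨q * w, J'.mul_mem_left _ hw, map_mul _ _ _⟩
      | zero => exact fun q _ => ⟨0, zero_mem _, by rw [map_zero, mul_zero]⟩
      | add a b _ _ ha hb =>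
        intro q hq
        obtain ⟨p, hp, h⟩ := ha q hq
        obtain ⟨p', hp', h'⟩ := hb q hq
        exact ⟨p + p', add_mem hp hp', by rw [map_add, h, h', mul_add]⟩
      | smul a w _ hw =>
        intro q hq
        have hq' := hπker.le hq
        clear hq
        induction hq' using Submodule.span_induction with
        | mem v hv =>
          obtain ⟨x', hx', rfl⟩ := hv
          obtain ⟨r, hr, hr'⟩ := hPpoly x' hx' a
          obtain ⟨p, hp, hp'⟩ := hw r hr
          exact ⟨p, hp, by rw [hp', hr', map_C, smul_eq_mul, mul_assoc]⟩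
        | zero => exact ⟨0, zero_mem _, by rw [map_zero, zero_mul]⟩
        | add c d _ _ hc hd =>
          obtain ⟨p, hp, h⟩ := hc
          obtain ⟨p', hp', h'⟩ := hd
          exact ⟨p + p', add_mem hp hp', by rw [map_add, map_add, h, h', add_mul]⟩
        | smul c d _ hd =>
          obtain ⟨p, hp, h⟩ := hd
          exact ⟨c * p, J'.mul_mem_left _ hp, by rw [map_mul, h, show c • d = c * d from rfl, map_mul, mul_assoc]⟩
    -- conclusion
    have hker : ∀ p : S, φ p = 0 → p ∈ J' := by
      intro p hp
      have h1 : π p ∈ J'.map π := by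
        have h0 : π p ∈ LinearMap.ker (Algebra.linearMap (MvPolynomial (Fin n) Q) (C ⧸ P.map (algebraMap O C))) := by
          change φQ (π p) = 0
          rw [hQ, hp, map_zero]
        rw [← hsQ] at h0
        refine (Submodule.span_le (p := J'.map π)).mpr (fun t ht => ?_) h0
        rw [show t = π (l ⟨t, ht⟩) from (hlπ ⟨t, ht⟩).symm]
        exact Ideal.mem_map_of_mem _
          (Ideal.subset_span (Finset.mem_union_right _ (Finset.mem_image_of_mem l (Finset.mem_univ _))))
      obtain ⟨p', hp', he⟩ := (Ideal.mem_map_iff_of_surjective π hπ).mp h1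
      suffices p - p' ∈ J' by simpa using add_mem this hp'
      have hd0 : φ (p - p') = 0 := by rw [map_sub, hp, hJ'le p' hp', sub_self]
      have hcoef : ∀ m, coeff m (p - p') ∈ P := fun m => by
        rw [← Ideal.Quotient.eq_zero_iff_mem, ← coeff_map]
        change coeff m (π (p - p')) = 0
        rw [map_sub, he, sub_self, coeff_zero]
      generalize p - p' = d at hd0 hcoef
      have hrel : ∑ m : d.support, algebraMap O A (coeff m.1 d) • φA (monomial m.1 1) = 0 := by
        have h1 := (hJ d).mp hd0
        change φA (ψ d) = 0 at h1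
        rw [← d.support_sum_monomial_coeff, ← Finset.sum_coe_sort, map_sum, map_sum] at h1
        rw [← h1]
        refine Finset.sum_congr rfl fun m _ => ?_
        rw [map_monomial, ← map_smul, smul_monomial, smul_eq_mul, mul_one]
      obtain ⟨k, a, z, hz, ha⟩ := Module.Flat.isTrivialRelation_of_sum_smul_eq_zero hrel
      choose w hw using fun j => hφA (z j)
      have hmem : ∀ m : d.support, monomial m.1 1 - ∑ j, a m j • w j ∈ JA := fun m => by
        change φA _ = 0
        rw [map_sub, map_sum, show φA (monomial m.1 1) = _ from hz m]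
        simp only [map_smul, hw, sub_self]
      choose r hr hr' using fun m : d.support => habs _ (hcoef m.1) _ (hmem m)
      have : d = ∑ m, r m := hψ (by
        rw [map_sum]
        simp only [hr', mul_sub, Finset.mul_sum, Finset.sum_sub_distrib]
        rw [Finset.sum_comm (t := (Finset.univ : Finset (Fin k)))]
        have hz0 : ∀ j, ∑ m : d.support, MvPolynomial.C (algebraMap O A (coeff m.1 d)) * (a m j • w j) = 0 := fun j => by
          simp only [MvPolynomial.smul_eq_C_mul, ← mul_assoc, ← map_mul, ← Finset.sum_mul, ← map_sum, ha j,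
            map_zero, zero_mul]
        simp only [hz0, Finset.sum_const_zero, sub_zero]
        conv_lhs => rw [← d.support_sum_monomial_coeff, ← Finset.sum_coe_sort, map_sum]
        refine Finset.sum_congr rfl fun m _ => ?_
        rw [map_monomial, C_mul_monomial, mul_one])
      rw [this]
      exact sum_mem fun m _ => hr m
    refine Algebra.FinitePresentation.of_surjective (f := φ) hφ ⟨G, le_antisymm (fun p hp => hJ'le p hp) fun p hp => hker p hp⟩

end SemiVal

end Groth.Agent.ValFP
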