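import Groth.Agent.ValFP.Homog

/-!
# Torsion-free finite modules over polynomial rings over valuation rings; coherence
-/

set_option autoImplicit false
set_option linter.style.haveILetI false

universe u

namespace Groth.Agent.ValFP

open MvPolynomial

variable {V : Type u} [CommRing V] [IsDomain V] [ValuationRing V] {n : ℕ}

/-- Nagata: torsion-free finite modules over `V[X]` are finitely presented. -/
theorem finitePresentation_of_torsionFree (M : Type u) [AddCommGroup M] [Module (MvPolynomial (Fin n) V) M]
    [Module.Finite (MvPolynomial (Fin n) V) M]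
    (htf : ∀ (c : V) (x : M), c ≠ 0 → (C c : MvPolynomial (Fin n) V) • x = 0 → x = 0) :
    Module.FinitePresentation (MvPolynomial (Fin n) V) M := by
  obtain ⟨r, f, hf⟩ := Module.Finite.exists_fin' (MvPolynomial (Fin n) V) M
  refine Module.finitePresentation_of_surjective f hf (fg_of_saturated _ fun c x hc hx => ?_)
  rw [LinearMap.mem_ker, show c • x = (C c : MvPolynomial (Fin n) V) • x from
    (algebraMap_smul (MvPolynomial (Fin n) V) c x).symm, map_smul] at hx
  exact htf c (f x) hc hx

/-- Coherence: finitely generated submodules of finitely presented modules are finitely presented. -/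
theorem finitePresentation_submodule (Q : Type u) [AddCommGroup Q] [Module (MvPolynomial (Fin n) V) Q]
    [Module.FinitePresentation (MvPolynomial (Fin n) V) Q] (N : Submodule (MvPolynomial (Fin n) V) Q) (hN : N.FG) :
    Module.FinitePresentation (MvPolynomial (Fin n) V) N := by
  let P := MvPolynomial (Fin n) V
  obtain ⟨r, f, hf⟩ := Module.Finite.exists_fin' P Q
  have hker : (LinearMap.ker f).FG := Module.FinitePresentation.fg_ker f hf
  let G := N.comap f
  have hG : G.FG := by
    refine Submodule.fg_of_fg_map_of_fg_inf_ker f ?_ ?_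
    · rwa [Submodule.map_comap_eq_of_surjective hf]
    · rwa [inf_eq_right.mpr (fun x hx => by
        rw [Submodule.mem_comap, LinearMap.mem_ker.mp hx]; exact zero_mem _)]
  haveI : Module.Finite P G := Module.Finite.iff_fg.mpr hG
  haveI : Module.FinitePresentation P G := finitePresentation_of_torsionFree G fun c x hc hx => by
    refine Subtype.ext (funext fun j => ?_)
    have h := congrFun (congrArg Subtype.val hx) j
    change (C c : P) * x.1 j = 0 at h
    exact (mul_eq_zero.mp h).resolve_left ((map_ne_zero_iff _ (C_injective (Fin n) V)).mpr hc)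
  let g : G →ₗ[P] N := f.restrict (p := G) (q := N) fun x hx => hx
  refine Module.finitePresentation_of_surjective g (fun y => ?_) ?_
  · obtain ⟨x, hx⟩ := hf y.1
    exact ⟨⟨x, by rw [Submodule.mem_comap, hx]; exact y.2⟩, Subtype.ext hx⟩
  · refine Submodule.fg_of_fg_map_injective G.subtype G.injective_subtype ?_
    have : (LinearMap.ker g).map G.subtype = LinearMap.ker f := by
      ext x
      constructor
      · rintro ⟨y, hy, rfl⟩
        exact congrArg Subtype.val hy
      · intro hx
        refine ⟨⟨x, by rw [Submodule.mem_comap, LinearMap.mem_ker.mp hx]; exact zero_mem _⟩, ?_, rfl⟩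
        exact Subtype.ext hx
    rwa [this]

/-- Coherence: annihilators of elements of finitely presented modules are finitely generated. -/
theorem fg_ker_toSpanSingleton (Q : Type u) [AddCommGroup Q] [Module (MvPolynomial (Fin n) V) Q]
    [Module.FinitePresentation (MvPolynomial (Fin n) V) Q] (z : Q) :
    (LinearMap.ker (LinearMap.toSpanSingleton (MvPolynomial (Fin n) V) Q z)).FG := by
  let l := LinearMap.toSpanSingleton (MvPolynomial (Fin n) V) Q z
  haveI := finitePresentation_submodule Q (LinearMap.range l) (by
    rw [LinearMap.range_eq_map]; exact Module.Finite.fg_top.map _)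
  have := Module.FinitePresentation.fg_ker l.rangeRestrict l.surjective_rangeRestrict
  rwa [LinearMap.ker_rangeRestrict] at this

/-- The saturation of a finitely generated submodule of a torsion-free finite module is finitely generated,
and is killed into the submodule by one nonzero constant. -/
theorem exists_saturation (M : Type u) [AddCommGroup M] [Module (MvPolynomial (Fin n) V) M]
    [Module.Finite (MvPolynomial (Fin n) V) M]
    (htf : ∀ (c : V) (x : M), c ≠ 0 → (C c : MvPolynomial (Fin n) V) • x = 0 → x = 0)
    (N : Submodule (MvPolynomial (Fin n) V) M) :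
    ∃ c : V, c ≠ 0 ∧ ∀ (e : V) (y : M), e ≠ 0 → (C e : MvPolynomial (Fin n) V) • y ∈ N →
      (C c : MvPolynomial (Fin n) V) • y ∈ N := by
  classical
  let P := MvPolynomial (Fin n) V
  let W : Submodule P M :=
    { carrier := {y | ∃ e : V, e ≠ 0 ∧ (C e : P) • y ∈ N}
      zero_mem' := ⟨1, one_ne_zero, by rw [smul_zero]; exact zero_mem _⟩
      add_mem' := by
        rintro x y ⟨a, ha, hx⟩ ⟨b, hb, hy⟩
        refine ⟨a * b, mul_ne_zero ha hb, ?_⟩
        rw [smul_add, map_mul]
        refine add_mem ?_ ?_
        · rw [mul_comm, mul_smul]; exact N.smul_mem _ hx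
        · rw [mul_smul]; exact N.smul_mem _ hy
      smul_mem' := by
        rintro p x ⟨a, ha, hx⟩
        exact ⟨a, ha, by rw [smul_comm]; exact N.smul_mem p hx⟩ }
  haveI : Module.FinitePresentation P (M ⧸ W) := finitePresentation_of_torsionFree _ fun c z hc hz => by
    obtain ⟨z, rfl⟩ := Submodule.Quotient.mk_surjective _ z
    rw [← Submodule.Quotient.mk_smul, Submodule.Quotient.mk_eq_zero] at hz
    obtain ⟨e, he, h⟩ := hz
    rw [← mul_smul, ← map_mul] at h
    exact (Submodule.Quotient.mk_eq_zero W).mpr ⟨e * c, mul_ne_zero he hc, h⟩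
  have hW : W.FG := by
    have := Module.FinitePresentation.fg_ker W.mkQ W.mkQ_surjective
    rwa [Submodule.ker_mkQ] at this
  obtain ⟨s, hs⟩ := hW
  choose e he heN using fun y : s => (show y.1 ∈ W from hs.le (Submodule.subset_span y.2))
  refine ⟨∏ y, e y, Finset.prod_ne_zero_iff.mpr fun y _ => he y, fun a y ha hy => ?_⟩
  have hyW : y ∈ W := ⟨a, ha, hy⟩
  rw [← hs] at hyW
  clear hy
  induction hyW using Submodule.span_induction with
  | mem w hw =>
    obtain ⟨q, hq⟩ := Finset.dvd_prod_of_mem e (Finset.mem_univ (⟨w, hw⟩ : s))
    rw [hq, map_mul, mul_comm, mul_smul]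
    exact N.smul_mem _ (heN ⟨w, hw⟩)
  | zero => rw [smul_zero]; exact zero_mem _
  | add x y _ _ hx hy => rw [smul_add]; exact add_mem hx hy
  | smul p x _ hx => rw [smul_comm]; exact N.smul_mem p hx

end Groth.Agent.ValFP
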