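import Groth.Agent.ValFP.Coherent
import Groth.Agent.JacDesc.Basic
import Groth.Agent.BezoutFP.Smith
import Groth.Agent.Weighting.ZMTFP

/-!
# Annihilators in a valuation ring of cyclic finitely presented modules at a prime

For a finitely generated ideal `J` of `P = V[X]` and a prime `w` over the maximal ideal of `V`, the set of
`e ∈ V` with `e ∈ J_w` is a principal ideal of `V`.
-/

set_option autoImplicit false
set_option linter.style.haveILetI false
set_option maxRecDepth 4000

universe u

namespace Groth.Agent.ValFP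

open MvPolynomial

/-- The linear algebra step over a valuation ring. -/
theorem exists_dvd_iff_of_finitePresentation {L : Type u} [CommRing L] [IsDomain L] [ValuationRing L] {D : Type u}
    [CommRing D] [Algebra L D] [Module.FinitePresentation L D] (w : Ideal D) [w.IsPrime]
    (hw : IsLocalRing.maximalIdeal L ≤ w.comap (algebraMap L D)) :
    ∃ a : L, ∀ e : L, (∃ s, s ∉ w ∧ algebraMap L D e * s = 0) ↔ a ∣ e := by
  classical
  obtain ⟨r, f, hf⟩ := Module.Finite.exists_fin' L D
  obtain ⟨ε, d, hd⟩ := BezoutFP.exists_diag L r _ (Module.FinitePresentation.fg_ker f hf)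
  let b : Fin r → D := fun i => f (ε.symm (Pi.single i 1))
  have hexp : ∀ x, f x = ∑ i, ε x i • b i := fun x => by
    conv_lhs => rw [← ε.symm_apply_apply x, pi_eq_sum_univ' (ε x)]
    simp only [map_sum, map_smul, b]
  have hker : ∀ x, f x = 0 ↔ ∀ i, d i ∣ ε x i := fun x => hd x
  have hne : (Finset.univ.filter fun i => b i ∉ w).Nonempty := by
    rw [Finset.filter_nonempty_iff]
    by_contra! h
    obtain ⟨x, hx⟩ := hf 1
    refine (inferInstance : w.IsPrime).one_notMem ?_
    rw [← hx, hexp]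
    exact sum_mem fun i _ => by rw [Algebra.smul_def]; exact w.mul_mem_left _ (h i (Finset.mem_univ i))
  obtain ⟨i0, hi0, hmin⟩ := JacDesc.exists_dvd_all d _ hne
  refine ⟨d i0, fun e => ⟨?_, fun he => ?_⟩⟩
  · rintro ⟨s, hs, hes⟩
    obtain ⟨x, rfl⟩ := hf s
    have h0 : f (e • x) = 0 := by rw [map_smul, Algebra.smul_def]; exact hes
    rw [hker] at h0
    by_contra hcon
    refine hs ?_
    rw [hexp]
    refine sum_mem fun i _ => ?_
    rw [Algebra.smul_def]
    by_cases hi : b i ∈ w
    · exact w.mul_mem_left _ hi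
    refine w.mul_mem_right _ (hw ((IsLocalRing.mem_maximalIdeal _).mpr fun hu => hcon ?_))
    have h1 := h0 i
    rw [map_smul, Pi.smul_apply, smul_eq_mul] at h1
    exact (hmin i (Finset.mem_filter.mpr ⟨Finset.mem_univ i, hi⟩)).trans (hu.dvd_mul_right.mp h1)
  · refine ⟨b i0, (Finset.mem_filter.mp hi0).2, ?_⟩
    rw [← Algebra.smul_def, show e • b i0 = f (e • ε.symm (Pi.single i0 1)) from (map_smul f e _).symm, hker]
    intro i
    rw [map_smul, ε.apply_symm_apply, Pi.smul_apply, smul_eq_mul]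
    rcases eq_or_ne i i0 with rfl | h
    · rw [Pi.single_eq_same, mul_one]; exact he
    · rw [Pi.single_eq_of_ne h, mul_zero]; exact dvd_zero _

variable {V : Type u} [CommRing V] [IsDomain V] [ValuationRing V]

/-- The Gauss prime `m V[Y]`. -/
noncomputable def gaussPrime (V : Type u) [CommRing V] [IsDomain V] [ValuationRing V] (s : ℕ) :
    Ideal (MvPolynomial (Fin s) V) :=
  RingHom.ker (MvPolynomial.map (IsLocalRing.residue V))

instance gaussPrime_isPrime (s : ℕ) : (gaussPrime V s).IsPrime := RingHom.ker_isPrime _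

theorem mem_gaussPrime {s : ℕ} {F : MvPolynomial (Fin s) V} :
    F ∈ gaussPrime V s ↔ ∀ m, coeff m F ∈ IsLocalRing.maximalIdeal V := by
  rw [gaussPrime, RingHom.mem_ker, MvPolynomial.ext_iff]
  simp only [coeff_map, coeff_zero, IsLocalRing.residue_eq_zero_iff]

theorem primitive_notMem_gaussPrime {s : ℕ} {F : MvPolynomial (Fin s) V} {m : Fin s →₀ ℕ} (h : coeff m F = 1) :
    F ∉ gaussPrime V s := fun hF => by
  have := mem_gaussPrime.mp hF m
  rw [h] at this
  exact (IsLocalRing.maximalIdeal.isMaximal V).ne_top ((Ideal.eq_top_iff_one _).mpr this)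

theorem exists_eq_algebraMap_mul_unit {s : ℕ} (z : Localization.AtPrime (gaussPrime V s)) :
    ∃ (c : V) (u : (Localization.AtPrime (gaussPrime V s))ˣ),
      z = algebraMap V (Localization.AtPrime (gaussPrime V s)) c * u := by
  obtain ⟨F, ⟨G, hG⟩, rfl⟩ := IsLocalization.exists_mk'_eq (gaussPrime V s).primeCompl z
  rcases eq_or_ne F 0 with rfl | hF
  · exact ⟨0, 1, by simp [IsLocalization.mk'_zero]⟩
  obtain ⟨c, -, F', rfl, m, hm⟩ := JacDesc.exists_primitive F hF
  have hu := IsLocalization.map_units (Localization.AtPrime (gaussPrime V s))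
    (⟨F', primitive_notMem_gaussPrime hm⟩ : (gaussPrime V s).primeCompl)
  have hG' := IsLocalization.map_units (Localization.AtPrime (gaussPrime V s)) (⟨G, hG⟩ : (gaussPrime V s).primeCompl)
  refine ⟨c, hu.unit * hG'.unit⁻¹, ?_⟩
  rw [IsLocalization.mk'_eq_iff_eq_mul, Units.val_mul, IsUnit.unit_spec, map_mul,
    IsScalarTower.algebraMap_apply V (MvPolynomial (Fin s) V) (Localization.AtPrime (gaussPrime V s)),
    MvPolynomial.algebraMap_eq]
  rw [mul_assoc, mul_assoc, IsUnit.val_inv_mul, mul_one]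

theorem valuationRing_gauss (s : ℕ) : ValuationRing (Localization.AtPrime (gaussPrime V s)) := by
  haveI : IsDomain (Localization.AtPrime (gaussPrime V s)) :=
    IsLocalization.isDomain_localization (gaussPrime V s).primeCompl_le_nonZeroDivisors
  refine ValuationRing.iff_dvd_total.2 ⟨fun x y => ?_⟩
  obtain ⟨a, u, rfl⟩ := exists_eq_algebraMap_mul_unit x
  obtain ⟨b, v, rfl⟩ := exists_eq_algebraMap_mul_unit y
  rcases ValuationRing.dvd_total a b with h | h
  · exact Or.inl (Units.mul_right_dvd.mpr ((map_dvd _ h).mul_right _))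
  · exact Or.inr (Units.mul_right_dvd.mpr ((map_dvd _ h).mul_right _))

theorem dvd_of_algebraMap_gauss_dvd {s : ℕ} {a e : V}
    (h : algebraMap V (Localization.AtPrime (gaussPrime V s)) a ∣
      algebraMap V (Localization.AtPrime (gaussPrime V s)) e) : a ∣ e := by
  obtain ⟨z, hz⟩ := h
  obtain ⟨F, ⟨G, hG⟩, rfl⟩ := IsLocalization.exists_mk'_eq (gaussPrime V s).primeCompl z
  rw [IsScalarTower.algebraMap_apply V (MvPolynomial (Fin s) V) _ e,
    IsScalarTower.algebraMap_apply V (MvPolynomial (Fin s) V) _ a, IsLocalization.mul_mk'_eq_mk'_of_mul,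
    IsLocalization.eq_mk'_iff_mul_eq, ← map_mul] at hz
  have hz' := IsLocalization.injective (Localization.AtPrime (gaussPrime V s))
    (gaussPrime V s).primeCompl_le_nonZeroDivisors hz
  obtain ⟨m, hm⟩ := not_forall.mp (fun hall => hG (mem_gaussPrime.mpr hall))
  rw [IsLocalRing.mem_maximalIdeal, mem_nonunits_iff, not_not] at hm
  have := congrArg (coeff m) hz'
  rw [MvPolynomial.algebraMap_eq, coeff_C_mul, coeff_C_mul] at this
  exact hm.dvd_mul_right.mp ⟨coeff m F, this⟩

/-- The case of a finite finitely presented algebra over `V[Y]` at a prime over the Gauss prime. -/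
theorem exists_dvd_iff_finite {s : ℕ} {Z : Type u} [CommRing Z] [Algebra (MvPolynomial (Fin s) V) Z]
    [Module.Finite (MvPolynomial (Fin s) V) Z] [Algebra.FinitePresentation (MvPolynomial (Fin s) V) Z]
    (w : Ideal Z) [w.IsPrime] (hw : w.comap (algebraMap (MvPolynomial (Fin s) V) Z) = gaussPrime V s) :
    ∃ a : V, ∀ e : V, (∃ t, t ∉ w ∧ algebraMap (MvPolynomial (Fin s) V) Z (C e) * t = 0) ↔ a ∣ e := by
  classical
  let R := MvPolynomial (Fin s) V
  let p := gaussPrime V s
  let L := Localization.AtPrime p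
  haveI : ValuationRing L := valuationRing_gauss s
  haveI : IsDomain L := IsLocalization.isDomain_localization p.primeCompl_le_nonZeroDivisors
  haveI : Module.FinitePresentation R Z := Module.FinitePresentation.of_finite_of_finitePresentation R Z
  haveI : IsLocalizedModule p.primeCompl (TensorProduct.mk R L Z 1) :=
    (isLocalizedModule_iff_isBaseChange p.primeCompl L _).mpr (TensorProduct.isBaseChange R Z L)
  haveI : w.LiesOver p := ⟨hw.symm⟩
  let gw : Z →ₐ[R] w.ResidueField := IsScalarTower.toAlgHom R Z w.ResidueField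
  have hunit : ∀ x : p.primeCompl, IsUnit (algebraMap R w.ResidueField x) := fun x => by
    refine isUnit_iff_ne_zero.mpr fun h => x.2 ?_
    rw [IsScalarTower.algebraMap_apply R Z w.ResidueField, Ideal.algebraMap_residueField_eq_zero] at h
    exact hw.le (Ideal.mem_comap.mpr h)
  let gL : L →ₐ[R] w.ResidueField :=
    { IsLocalization.lift hunit with commutes' := fun x => IsLocalization.lift_eq hunit x }
  let θ : (TensorProduct R L Z) →ₐ[R] w.ResidueField := Algebra.TensorProduct.lift gL gw fun _ _ => .all _ _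
  haveI : (RingHom.ker θ.toRingHom).IsPrime :=
    ⟨fun h => one_ne_zero (α := w.ResidueField) (by
      have h1 : (1 : TensorProduct R L Z) ∈ RingHom.ker θ.toRingHom := by rw [h]; trivial
      simpa using h1),
    fun {x y} h => by
      rw [RingHom.mem_ker, map_mul, mul_eq_zero] at h
      exact h⟩
  have hθ : ∀ z : Z, θ ((1 : L) ⊗ₜ[R] z) = gw z := fun z => by
    rw [Algebra.TensorProduct.lift_tmul, map_one, one_mul]
  obtain ⟨a', ha'⟩ := exists_dvd_iff_of_finitePresentation (L := L) (D := (TensorProduct R L Z)) (RingHom.ker θ.toRingHom :) (by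
    intro x hx
    rw [Ideal.mem_comap, RingHom.mem_ker]
    change θ (x ⊗ₜ[R] (1 : Z)) = 0
    rw [Algebra.TensorProduct.lift_tmul, map_one, mul_one]
    rw [← Localization.AtPrime.map_eq_maximalIdeal] at hx
    refine (Ideal.map_le_iff_le_comap (K := RingHom.ker gL.toRingHom)).mpr (fun r hr => ?_) hx
    rw [Ideal.mem_comap, RingHom.mem_ker]
    change gL (algebraMap R L r) = 0
    rw [gL.commutes, IsScalarTower.algebraMap_apply R Z w.ResidueField, Ideal.algebraMap_residueField_eq_zero]
    rw [← show w.comap (algebraMap R Z) = p from hw] at hr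
    exact hr)
  obtain ⟨a, u, rfl⟩ := exists_eq_algebraMap_mul_unit a'
  refine ⟨a, fun e => ?_⟩
  have key : (∃ t, t ∉ w ∧ algebraMap R Z (C e) * t = 0) ↔
      ∃ t, t ∉ RingHom.ker θ.toRingHom ∧ algebraMap L (TensorProduct R L Z) (algebraMap V L e) * t = 0 := by
    have hce : ∀ z : Z, algebraMap L (TensorProduct R L Z) (algebraMap V L e) * ((1 : L) ⊗ₜ[R] z) =
        (1 : L) ⊗ₜ[R] (algebraMap R Z (C e) * z) := by
      intro z
      rw [Algebra.TensorProduct.algebraMap_apply, Algebra.algebraMap_self_apply,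
        IsScalarTower.algebraMap_apply V R L, MvPolynomial.algebraMap_eq, Algebra.algebraMap_eq_smul_one,
        Algebra.TensorProduct.tmul_mul_tmul, mul_one, one_mul, TensorProduct.smul_tmul,
        Algebra.smul_def]
    constructor
    · rintro ⟨t, ht, h⟩
      refine ⟨(1 : L) ⊗ₜ[R] t, fun hk => ht ?_, by rw [hce, h, TensorProduct.tmul_zero]⟩
      have hk' : θ ((1 : L) ⊗ₜ[R] t) = 0 := RingHom.mem_ker.mp hk
      rw [hθ] at hk'
      exact Ideal.algebraMap_residueField_eq_zero.mp hk'
    · rintro ⟨t, ht, h⟩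
      obtain ⟨⟨z, r⟩, hz⟩ := IsLocalizedModule.surj p.primeCompl (TensorProduct.mk R L Z 1) t
      have hz1 : (1 : L) ⊗ₜ[R] (algebraMap R Z (C e) * z) = 0 := by
        rw [← hce, ← show r • t = (1 : L) ⊗ₜ[R] z from hz, Submonoid.smul_def, mul_smul_comm, h, smul_zero]
      obtain ⟨r', hr'⟩ := (IsLocalizedModule.eq_zero_iff p.primeCompl (TensorProduct.mk R L Z 1)).mp hz1
      refine ⟨(r' : R) • z, ?_, by rw [mul_smul_comm]; exact hr'⟩
      rw [Algebra.smul_def]
      refine fun hk => ((inferInstance : w.IsPrime).mem_or_mem hk).elim (fun h1 => r'.2 ?_) fun h1 => ht ?_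
      · exact hw.le (Ideal.mem_comap.mpr h1)
      · have h2 : θ ((1 : L) ⊗ₜ[R] z) = 0 := by rw [hθ]; exact Ideal.algebraMap_residueField_eq_zero.mpr h1
        rw [← show r • t = (1 : L) ⊗ₜ[R] z from hz, Submonoid.smul_def, map_smul, Algebra.smul_def, mul_eq_zero] at h2
        exact RingHom.mem_ker.mpr (h2.resolve_left (hunit r).ne_zero)
  rw [key, ha', Units.mul_right_dvd]
  exact ⟨dvd_of_algebraMap_gauss_dvd, fun h => map_dvd _ h⟩

variable {n : ℕ}

/-- The set `{e ∈ V : e ∈ J_w}`. -/
def InLoc (J w : Ideal (MvPolynomial (Fin n) V)) (e : V) : Prop := ∃ s, s ∉ w ∧ C e * s ∈ J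

theorem exists_dvd_iff_inLoc_minimal (J : Ideal (MvPolynomial (Fin n) V)) (hJ : J.FG)
    (w : Ideal (MvPolynomial (Fin n) V))
    (hw : w ∈ (J ⊔ (IsLocalRing.maximalIdeal V).map C).minimalPrimes) :
    ∃ a : V, ∀ e : V, InLoc J w e ↔ a ∣ e := by
  classical
  let P := MvPolynomial (Fin n) V
  let κ := IsLocalRing.ResidueField V
  haveI : w.IsPrime := hw.1.1
  have hJw : J ≤ w := le_sup_left.trans hw.1.2
  have hmw : (IsLocalRing.maximalIdeal V).map C ≤ w := le_sup_right.trans hw.1.2
  -- a transcendence basis of `P ⧸ w` among the variables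
  let A := P ⧸ w
  letI : Algebra κ A := (Ideal.Quotient.lift (IsLocalRing.maximalIdeal V) ((Ideal.Quotient.mk w).comp C)
    fun a ha => Ideal.Quotient.eq_zero_iff_mem.mpr (hmw (Ideal.mem_map_of_mem _ ha))).toAlgebra
  have hκ : ∀ a : V, algebraMap κ A (IsLocalRing.residue V a) = Ideal.Quotient.mk w (C a) := fun _ => rfl
  let x : Fin n → A := fun i => Ideal.Quotient.mk w (X i)
  haveI : Algebra.IsAlgebraic (Algebra.adjoin κ (Set.range x)) A := by
    refine ⟨fun z => ?_⟩
    have hz : z ∈ Algebra.adjoin κ (Set.range x) := by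
      obtain ⟨q, rfl⟩ := Ideal.Quotient.mk_surjective z
      induction q using MvPolynomial.induction_on with
      | C a => rw [← hκ]; exact Subalgebra.algebraMap_mem _ _
      | add a b ha hb => rw [map_add]; exact add_mem ha hb
      | mul_X a i ha => rw [map_mul]; exact mul_mem ha (Algebra.subset_adjoin ⟨i, rfl⟩)
    exact isAlgebraic_algebraMap (⟨z, hz⟩ : Algebra.adjoin κ (Set.range x))
  obtain ⟨t, ht, htb⟩ := exists_isTranscendenceBasis_subset (R := κ) (Set.range x)
  haveI : Fintype t := ((Set.finite_range x).subset ht).fintype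
  let et : Fin (Fintype.card t) ≃ t := (Fintype.equivFin t).symm
  choose ι hι using fun i => ht (et i).2
  let R := MvPolynomial (Fin (Fintype.card t)) V
  have hι' : Function.Injective ι := fun i j h => et.injective (Subtype.ext (by rw [← hι i, ← hι j, h]))
  letI algP : Algebra R P := (rename ι : R →ₐ[V] P).toRingHom.toAlgebra
  haveI : IsScalarTower V R P := IsScalarTower.of_algebraMap_eq fun a => ((rename ι : R →ₐ[V] P).commutes a).symm
  have hind : AlgebraicIndependent κ fun i => x (ι i) := by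
    have h := htb.1.comp et et.injective
    rwa [show (fun i => x (ι i)) = (Subtype.val : t → A) ∘ et from funext hι]
  have heval : ∀ F : R, Ideal.Quotient.mk w (algebraMap R P F) =
      MvPolynomial.aeval (fun i => x (ι i)) (MvPolynomial.map (IsLocalRing.residue V) F) := by
    intro F
    induction F using MvPolynomial.induction_on with
    | C a => rw [RingHom.algebraMap_toAlgebra, AlgHom.toRingHom_eq_coe, RingHom.coe_coe, rename_C, map_C, aeval_C, hκ]
    | add a b ha hb => simp only [map_add, ha, hb]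
    | mul_X a i ha =>
      simp only [map_mul, ha, map_X, aeval_X]
      rw [RingHom.algebraMap_toAlgebra, AlgHom.toRingHom_eq_coe, RingHom.coe_coe, rename_X]
  have hwR : w.comap (algebraMap R P) = gaussPrime V (Fintype.card t) := by
    ext F
    rw [Ideal.mem_comap, ← Ideal.Quotient.eq_zero_iff_mem, heval, gaussPrime, RingHom.mem_ker]
    exact ⟨fun h => hind (by rw [h, map_zero]), fun h => by rw [h, map_zero]⟩
  haveI : Algebra.FinitePresentation R P := Algebra.FinitePresentation.of_restrict_scalars_finitePresentation V R P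
  haveI : Algebra.FinitePresentation R (P ⧸ J) := Algebra.FinitePresentation.quotient hJ
  let mk := Ideal.Quotient.mk J
  let w1 : Ideal (P ⧸ J) := w.map mk
  haveI hw1 : w1.IsPrime := Ideal.map_isPrime_of_surjective Ideal.Quotient.mk_surjective (by simpa using hJw)
  have hmem : ∀ z : P, mk z ∈ w1 ↔ z ∈ w := fun z => by
    rw [← Ideal.mem_comap, Ideal.comap_map_of_surjective _ Ideal.Quotient.mk_surjective,
      ← RingHom.ker_eq_comap_bot, Ideal.mk_ker, sup_eq_left.mpr hJw]
  have hw1R : w1.comap (algebraMap R (P ⧸ J)) = gaussPrime V (Fintype.card t) := by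
    rw [← hwR]
    ext F
    exact hmem _
  -- `w1` is isolated in its fibre
  haveI hqf : Algebra.QuasiFiniteAt R w1 := by
    let p := gaussPrime V (Fintype.card t)
    haveI : w1.LiesOver p := ⟨hw1R.symm⟩
    let Φ := PrimeSpectrum.primesOverOrderIsoFiber R (P ⧸ J) p
    have hiso : ∀ Q : p.primesOver (P ⧸ J), (Q.1 ≤ w1 ∨ w1 ≤ Q.1) → Q.1 = w1 := by
      rintro ⟨Q, hQ, hQp⟩ hor
      haveI := hQ
      have hQc : ∀ F : R, algebraMap R P F ∈ Q.comap mk ↔ F ∈ p := fun F => by
        rw [hQp.over]; rfl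
      rcases hor with hle | hge
      · refine le_antisymm hle (Ideal.map_le_iff_le_comap.mpr ?_)
        refine hw.2 ⟨Ideal.comap_isPrime _ _, sup_le ?_ ?_⟩ fun z hz => (hmem z).mp (hle hz)
        · intro z hz
          rw [Ideal.mem_comap, Ideal.Quotient.eq_zero_iff_mem.mpr hz]
          exact zero_mem _
        · refine Ideal.map_le_iff_le_comap.mpr fun a ha => ?_
          have h := (hQc (C a)).mpr (mem_gaussPrime.mpr fun m => by
            rw [coeff_C]; split_ifs; exacts [ha, zero_mem _])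
          rwa [RingHom.algebraMap_toAlgebra, AlgHom.toRingHom_eq_coe, RingHom.coe_coe, rename_C] at h
      · refine le_antisymm (fun z hz => ?_) hge
        obtain ⟨z, rfl⟩ := Ideal.Quotient.mk_surjective z
        rw [hmem]
        by_contra hzw
        haveI : Algebra.IsAlgebraic (Algebra.adjoin κ (Set.range fun i => x (ι i))) A := by
          rw [show (Set.range fun i => x (ι i)) = Set.range (Subtype.val : t → A) by
            rw [show (fun i => x (ι i)) = (Subtype.val : t → A) ∘ et from funext hι, et.surjective.range_comp]]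
          exact htb.isAlgebraic
        obtain ⟨⟨r, hr⟩, hr0, hdvd⟩ := (Algebra.IsAlgebraic.isAlgebraic
          (R := Algebra.adjoin κ (Set.range fun i => x (ι i))) (Ideal.Quotient.mk w z)).exists_nonzero_dvd
          (mem_nonZeroDivisors_of_ne_zero fun h => hzw (Ideal.Quotient.eq_zero_iff_mem.mp h))
        rw [Algebra.adjoin_range_eq_range_aeval] at hr
        obtain ⟨G, hG⟩ := hr
        obtain ⟨F, rfl⟩ := MvPolynomial.map_surjective _ IsLocalRing.residue_surjective G
        obtain ⟨c, hc⟩ := hdvd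
        obtain ⟨c, rfl⟩ := Ideal.Quotient.mk_surjective c
        have hc' : Ideal.Quotient.mk w (algebraMap R P F) = Ideal.Quotient.mk w z * Ideal.Quotient.mk w c := by
          rw [← hc, heval]; exact hG
        rw [← map_mul, Ideal.Quotient.eq] at hc'
        have hFQ : algebraMap R P F ∈ Q.comap mk := by
          have h1 : algebraMap R P F - z * c ∈ Q.comap mk := hge ((hmem _).mpr hc')
          simpa using (Q.comap mk).add_mem h1 ((Q.comap mk).mul_mem_right c hz)
        have hFp := (hQc F).mp hFQ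
        refine hr0 (Subtype.ext ?_)
        change r = 0
        rw [← show _ = r from hG]
        change MvPolynomial.aeval (fun i => x (ι i)) _ = 0
        rw [show MvPolynomial.map (IsLocalRing.residue V) F = 0 from RingHom.mem_ker.mp hFp, map_zero]
    let q0 : p.primesOver (P ⧸ J) := ⟨w1, hw1, ⟨hw1R.symm⟩⟩
    haveI : Algebra.QuasiFiniteAt (S := p.Fiber (P ⧸ J)) p.ResidueField (Φ q0).asIdeal := by
      refine Algebra.QuasiFiniteAt.of_isOpen_singleton _ ?_
      haveI : IsNoetherianRing (p.Fiber (P ⧸ J)) := Algebra.FiniteType.isNoetherianRing p.ResidueField (p.Fiber (P ⧸ J))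
      haveI : IsJacobsonRing (p.Fiber (P ⧸ J)) := isJacobsonRing_of_finiteType (A := p.ResidueField)
      refine ((PrimeSpectrum.isOpen_singleton_tfae_of_isNoetherian_of_isJacobsonRing (R := p.Fiber (P ⧸ J)) (Φ q0)).out 0 2 rfl rfl).mpr ?_
      rw [PrimeSpectrum.isClosed_singleton_iff_isMaximal, PrimeSpectrum.stableUnderGeneralization_singleton,
        ← PrimeSpectrum.isMax_iff, ← PrimeSpectrum.isMin_iff]
      refine ⟨fun y hy => ?_, fun y hy => ?_⟩
      · have : Φ.symm y = q0 := Subtype.ext (hiso _ (Or.inr (show q0 ≤ Φ.symm y by simpa using Φ.symm.monotone hy)))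
        exact le_of_eq (by rw [← this, Φ.apply_symm_apply])
      · have : Φ.symm y = q0 := Subtype.ext (hiso _ (Or.inl (show Φ.symm y ≤ q0 by simpa using Φ.symm.monotone hy)))
        exact le_of_eq (by rw [← this, Φ.apply_symm_apply])
    refine Algebra.QuasiFiniteAt.of_quasiFiniteAt_residueField p w1 (Φ q0).asIdeal ?_
    have := congrArg Subtype.val (Φ.symm_apply_apply q0)
    rw [PrimeSpectrum.coe_primesOverOrderIsoFiber_symm_apply] at this
    exact this
  -- Zariski main theorem
  obtain ⟨S', hS', r, hr, hbij⟩ :=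
    Algebra.QuasiFiniteAt.exists_fg_and_exists_notMem_and_awayMap_bijective (R := R) w1
  let B := Localization.Away (r.1 : P ⧸ J)
  haveI : Module.Finite R S' := Module.Finite.iff_fg.mpr hS'
  let hom : Localization.Away r →ₐ[R] B := Localization.awayMapₐ S'.val r
  haveI : Algebra.QuasiFinite R B :=
    (Algebra.QuasiFinite.iff_of_algEquiv (AlgEquiv.ofBijective hom hbij)).mp inferInstance
  haveI : Algebra.FinitePresentation R B :=
    haveI := IsLocalization.Away.finitePresentation (r.1 : P ⧸ J) (S := B)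
    .trans R (P ⧸ J) _
  have hdis : Disjoint (Submonoid.powers (r.1 : P ⧸ J) : Set (P ⧸ J)) (w1 : Set (P ⧸ J)) := by
    rw [Set.disjoint_left]
    rintro _ ⟨k, rfl⟩ h
    exact hr (hw1.mem_of_pow_mem k h)
  let w2 : Ideal B := w1.map (algebraMap (P ⧸ J) B)
  haveI hw2 : w2.IsPrime := IsLocalization.isPrime_of_isPrime_disjoint (Submonoid.powers _) B _ hw1 hdis
  have hw2c : w2.comap (algebraMap (P ⧸ J) B) = w1 :=
    IsLocalization.comap_map_of_isPrime_disjoint _ B hw1 hdis
  obtain ⟨Z, _, _, _, _, φ, m, g, hcov, hgbij⟩ := Weighting.exists_finite_fp_algHom (A := R) (B := B)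
  obtain ⟨i, hi⟩ := hcov ⟨w2, hw2⟩
  haveI : (w2.comap φ.toRingHom).IsPrime := Ideal.comap_isPrime _ _
  obtain ⟨a, ha⟩ := exists_dvd_iff_finite (Z := Z) (w2.comap φ.toRingHom) (by
    rw [Ideal.comap_comap, show φ.toRingHom.comp (algebraMap R Z) = algebraMap R B from φ.comp_algebraMap,
      IsScalarTower.algebraMap_eq R (P ⧸ J) B, ← Ideal.comap_comap, hw2c, hw1R])
  refine ⟨a, fun e => Iff.trans ?_ (ha e)⟩
  have hCe : algebraMap R B (C e) = algebraMap (P ⧸ J) B (mk (C e)) := by
    rw [IsScalarTower.algebraMap_apply R (P ⧸ J) B, IsScalarTower.algebraMap_apply R P (P ⧸ J),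
      RingHom.algebraMap_toAlgebra, Ideal.Quotient.algebraMap_eq, AlgHom.toRingHom_eq_coe, RingHom.coe_coe,
      rename_C]
  constructor
  · rintro ⟨s, hs, hse⟩
    have hpow : Submonoid.powers (g i) ≤ Submonoid.comap φ.toRingHom (Submonoid.powers (φ (g i))) := by
      rintro _ ⟨k, rfl⟩
      exact ⟨k, (map_pow φ _ _).symm⟩
    obtain ⟨ζ, hζ⟩ := (hgbij i).2 (algebraMap B (Localization.Away (φ (g i))) (algebraMap (P ⧸ J) B (mk s)))
    obtain ⟨z, ⟨_, k, rfl⟩, rfl⟩ := IsLocalization.exists_mk'_eq (Submonoid.powers (g i)) ζ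
    change IsLocalization.map (M := Submonoid.powers (g i)) (T := Submonoid.powers (φ (g i))) (Localization.Away (φ (g i))) φ.toRingHom hpow _ = _ at hζ
    rw [IsLocalization.map_mk', IsLocalization.mk'_eq_iff_eq_mul, ← map_mul] at hζ
    obtain ⟨⟨_, l, rfl⟩, hl⟩ := (IsLocalization.eq_iff_exists (Submonoid.powers (φ (g i))) _).1 hζ
    simp only [AlgHom.toRingHom_eq_coe, RingHom.coe_coe, map_pow] at hl
    have hzero : φ (algebraMap R Z (C e) * (g i ^ l * z)) = 0 := by
      rw [map_mul, φ.commutes, map_mul, map_pow, hl, hCe]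
      have : algebraMap (P ⧸ J) B (mk (C e)) * algebraMap (P ⧸ J) B (mk s) = 0 := by
        rw [← map_mul, ← map_mul, Ideal.Quotient.eq_zero_iff_mem.mpr hse, map_zero]
      linear_combination (φ (g i) ^ l * φ (g i) ^ k) * this
    have : algebraMap Z (Localization.Away (g i)) (algebraMap R Z (C e) * (g i ^ l * z)) = 0 := by
      apply (hgbij i).1
      rw [map_zero]
      change IsLocalization.map (M := Submonoid.powers (g i)) (T := Submonoid.powers (φ (g i))) (Localization.Away (φ (g i))) φ.toRingHom hpow _ = _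
      rw [IsLocalization.map_eq, AlgHom.toRingHom_eq_coe, RingHom.coe_coe, hzero, map_zero]
    obtain ⟨⟨_, l', rfl⟩, hl'⟩ := (IsLocalization.map_eq_zero_iff (Submonoid.powers (g i)) _ _).1 this
    refine ⟨g i ^ l' * (g i ^ l * z), ?_, by rw [mul_left_comm]; exact hl'⟩
    rw [Ideal.mem_comap, AlgHom.toRingHom_eq_coe, RingHom.coe_coe, map_mul, map_mul, map_pow, map_pow, hl]
    refine fun h => ?_
    have hsw : algebraMap (P ⧸ J) B (mk s) ∉ w2 := fun h' => hs ((hmem s).mp (hw2c.le h'))
    exact (w2.primeCompl.mul_mem (pow_mem (show φ (g i) ∈ w2.primeCompl from hi) l')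
      (w2.primeCompl.mul_mem (pow_mem (show φ (g i) ∈ w2.primeCompl from hi) l)
        (w2.primeCompl.mul_mem hsw (pow_mem (show φ (g i) ∈ w2.primeCompl from hi) k)))) h
  · rintro ⟨z, hz, hze⟩
    obtain ⟨c, ⟨_, k, rfl⟩, hc⟩ := IsLocalization.exists_mk'_eq (Submonoid.powers (r.1 : P ⧸ J)) (φ z)
    have h1 : algebraMap (P ⧸ J) B (mk (C e) * c) = 0 := by
      rw [map_mul, ← hCe, ← φ.commutes, ← IsLocalization.mk'_spec B c (⟨_, k, rfl⟩ : Submonoid.powers (r.1 : P ⧸ J)),
        hc, ← mul_assoc, ← map_mul, hze, map_zero, zero_mul]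
    obtain ⟨⟨_, l, rfl⟩, hl⟩ := (IsLocalization.map_eq_zero_iff (Submonoid.powers (r.1 : P ⧸ J)) _ _).1 h1
    obtain ⟨s, hs⟩ := Ideal.Quotient.mk_surjective ((r.1 : P ⧸ J) ^ l * c)
    refine ⟨s, fun hsw => ?_, Ideal.Quotient.eq_zero_iff_mem.mp ?_⟩
    · have hcs : (r.1 : P ⧸ J) ^ l * c ∈ w1 := hs ▸ (hmem s).mpr hsw
      have hcw : c ∈ w1 := (hw1.mem_or_mem hcs).resolve_left fun h => hr (hw1.mem_of_pow_mem l h)
      refine hz (show φ z ∈ w2 from ?_)
      rw [← hc, IsLocalization.mk'_eq_mul_mk'_one]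
      exact w2.mul_mem_right _ (Ideal.mem_map_of_mem _ hcw)
    · rw [map_mul, hs, mul_left_comm]
      exact hl

/-- For a finitely generated ideal `J` and a prime `q` over the maximal ideal, `{e : e ∈ J_q}` is principal. -/
theorem exists_dvd_iff_inLoc (J : Ideal (MvPolynomial (Fin n) V)) (hJ : J.FG)
    (q : Ideal (MvPolynomial (Fin n) V)) [q.IsPrime] (hq : (IsLocalRing.maximalIdeal V).map C ≤ q) :
    ∃ a : V, ∀ e : V, InLoc J q e ↔ a ∣ e := by
  classical
  let P := MvPolynomial (Fin n) V
  let π : P →+* MvPolynomial (Fin n) (IsLocalRing.ResidueField V) := MvPolynomial.map (IsLocalRing.residue V)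
  have hπ : RingHom.ker π = (IsLocalRing.maximalIdeal V).map C := by
    rw [MvPolynomial.ker_map, IsLocalRing.ker_residue]
  generalize hI : J.map π = I
  induction I using WellFoundedGT.induction generalizing J with
  | ind I ih =>
    by_cases hJq : J ≤ q
    swap
    · obtain ⟨s, hsJ, hsq⟩ := SetLike.not_le_iff_exists.mp hJq
      exact ⟨1, fun e => ⟨fun _ => one_dvd e, fun _ => ⟨s, hsq, J.mul_mem_left _ hsJ⟩⟩⟩
    obtain ⟨w, hw, hwq⟩ := Ideal.exists_minimalPrimes_le (sup_le hJq hq)
    obtain ⟨a, ha⟩ := exists_dvd_iff_inLoc_minimal J hJ w hw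
    have hqw : ∀ e, InLoc J q e → a ∣ e := fun e ⟨s, hs, h⟩ => (ha e).mp ⟨s, fun hsw => hs (hwq hsw), h⟩
    rcases eq_or_ne a 0 with rfl | ha0
    · refine ⟨0, fun e => ⟨hqw e, fun h => ⟨1, (inferInstance : q.IsPrime).one_notMem, ?_⟩⟩⟩
      rw [zero_dvd_iff.mp h, map_zero, zero_mul]
      exact zero_mem _
    obtain ⟨s, hsw, hs⟩ := (ha a).mpr dvd_rfl
    haveI : Module.FinitePresentation P (P ⧸ J) :=
      Module.finitePresentation_of_surjective J.mkQ J.mkQ_surjective (by rw [Submodule.ker_mkQ]; exact hJ)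
    let J' : Ideal P := LinearMap.ker (LinearMap.toSpanSingleton P (P ⧸ J) (Ideal.Quotient.mk J (C a)))
    have hJ' : ∀ x, x ∈ J' ↔ C a * x ∈ J := fun x => by
      rw [mul_comm, ← Ideal.Quotient.eq_zero_iff_mem (I := J)]
      exact Iff.rfl
    have hlt : J.map π < J'.map π := by
      refine lt_of_le_of_ne (Ideal.map_mono fun x hx => (hJ' x).mpr (J.mul_mem_left _ hx)) fun heq => hsw ?_
      have h1 : π s ∈ J'.map π := Ideal.mem_map_of_mem _ ((hJ' s).mpr hs)
      rw [← heq, ← Ideal.mem_comap, Ideal.comap_map_of_surjective π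
        (MvPolynomial.map_surjective _ IsLocalRing.residue_surjective), ← RingHom.ker_eq_comap_bot, hπ] at h1
      exact hw.1.2 h1
    obtain ⟨a', ha'⟩ := ih _ (hI ▸ hlt) J' (fg_ker_toSpanSingleton (P ⧸ J) _) rfl
    refine ⟨a * a', fun e => ⟨fun he => ?_, ?_⟩⟩
    · obtain ⟨e', rfl⟩ := hqw e he
      obtain ⟨t, ht, h⟩ := he
      refine mul_dvd_mul_left a ((ha' e').mp ⟨t, ht, (hJ' _).mpr ?_⟩)
      rwa [← mul_assoc, ← map_mul]
    · rintro ⟨c, rfl⟩
      obtain ⟨t, ht, h⟩ := (ha' (a' * c)).mpr (dvd_mul_right _ _)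
      refine ⟨t, ht, ?_⟩
      rw [mul_assoc, map_mul, mul_assoc]
      exact (hJ' _).mp h

end Groth.Agent.ValFP
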