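import Mathlib

/-!
# Saturated submodules of free modules over polynomial rings over valuation rings are finitely generated

The pieces of bounded total degree are finitely generated free direct summands over the valuation ring;
their reductions form a submodule of a free module over the Noetherian Rees ring of the degree
filtration over the residue field, and Nakayama in each degree finishes the proof (Nagata).
-/

set_option autoImplicit false
set_option linter.style.haveILetI false

universe u

namespace Groth.Agent.ValFP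

open MvPolynomial

variable {k : Type u} [CommRing k] {n : ℕ}

/-- The Rees map `Y₀ ↦ t`, `Y_{i+1} ↦ t X_i`. -/
noncomputable def rees (k : Type u) [CommRing k] (n : ℕ) :
    MvPolynomial (Option (Fin n)) k →ₐ[k] Polynomial (MvPolynomial (Fin n) k) :=
  aeval fun o => o.elim Polynomial.X fun i => Polynomial.C (X i) * Polynomial.X

theorem exists_rees {f : MvPolynomial (Fin n) k} {d : ℕ} (hf : f.totalDegree ≤ d) :
    ∃ z, rees k n z = Polynomial.monomial d f := by
  classical
  let S : Submodule k (MvPolynomial (Fin n) k) :=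
    (LinearMap.range (rees k n).toLinearMap).comap ((Polynomial.monomial d).restrictScalars k)
  suffices f ∈ S by
    obtain ⟨z, hz⟩ := this
    exact ⟨z, hz⟩
  rw [← f.support_sum_monomial_coeff]
  refine sum_mem fun m hm => ?_
  have hmd : (m.sum fun _ e => e) ≤ d := (le_totalDegree hm).trans hf
  refine ⟨C (coeff m f) * X none ^ (d - m.sum fun _ e => e) * ∏ i ∈ m.support, X (some i) ^ m i, ?_⟩
  change rees k n _ = Polynomial.monomial d (monomial m (coeff m f))
  have hnone : rees k n (X none) = Polynomial.X := aeval_X _ _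
  have hsome : ∀ i, rees k n (X (some i)) = Polynomial.C (X i) * Polynomial.X := fun i => aeval_X _ _
  have hprod : ∀ t : Finset (Fin n), rees k n (∏ i ∈ t, X (some i) ^ m i) =
      Polynomial.C (∏ i ∈ t, X i ^ m i) * Polynomial.X ^ (∑ i ∈ t, m i) := by
    intro t
    induction t using Finset.induction_on with
    | empty => simp
    | insert i t hi ih =>
      rw [Finset.prod_insert hi, Finset.prod_insert hi, Finset.sum_insert hi, map_mul, ih, map_pow, hsome,
        mul_pow, ← Polynomial.C_pow, Polynomial.C_mul, pow_add]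
      ring
  rw [map_mul, map_mul, map_pow, hnone, hprod, show rees k n (C (coeff m f)) = algebraMap k _ (coeff m f)
    from (rees k n).commutes _]
  rw [← Polynomial.C_mul_X_pow_eq_monomial, monomial_eq, Finsupp.prod, map_mul]
  have h1 : (m.sum fun _ e => e) = ∑ i ∈ m.support, m i := rfl
  rw [← h1]
  have h2 : (algebraMap k (Polynomial (MvPolynomial (Fin n) k))) (coeff m f) = Polynomial.C (C (coeff m f)) := rfl
  rw [h2]
  calc _ = Polynomial.C (C (coeff m f)) * Polynomial.C (∏ i ∈ m.support, X i ^ m i) *
      (Polynomial.X ^ (d - m.sum fun _ e => e) * Polynomial.X ^ (m.sum fun _ e => e)) := by ring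
    _ = _ := by rw [← pow_add, Nat.sub_add_cancel hmd]

theorem exists_eq_C_add_sum {σ : Type*} [Fintype σ] (p : MvPolynomial σ k) :
    ∃ (c : k) (g : σ → MvPolynomial σ k), p = C c + ∑ i, X i * g i := by
  classical
  induction p using MvPolynomial.induction_on with
  | C a => exact ⟨a, 0, by simp⟩
  | add p q hp hq =>
    obtain ⟨a, g, rfl⟩ := hp
    obtain ⟨b, h, rfl⟩ := hq
    exact ⟨a + b, g + h, by simp only [map_add, Pi.add_apply, mul_add, Finset.sum_add_distrib]; ring⟩
  | mul_X p i _ =>
    refine ⟨0, Pi.single i p, ?_⟩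
    rw [map_zero, zero_add, Finset.sum_eq_single i (fun b _ hb => by rw [Pi.single_eq_of_ne hb, mul_zero])
      (fun h => (h (Finset.mem_univ _)).elim), Pi.single_eq_same, mul_comm]

/-- The coefficient of `t ^ d` under the Rees map. -/
noncomputable def co {r : ℕ} (z : Fin r → MvPolynomial (Option (Fin n)) k) (d : ℕ) :
    Fin r → MvPolynomial (Fin n) k :=
  fun j => (rees k n (z j)).coeff d

theorem co_add {r : ℕ} (z w : Fin r → MvPolynomial (Option (Fin n)) k) (d : ℕ) :
    co (z + w) d = co z d + co w d := funext fun j => by simp [co]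

theorem co_zero {r : ℕ} (d : ℕ) : co (0 : Fin r → MvPolynomial (Option (Fin n)) k) d = 0 :=
  funext fun j => by simp [co]

theorem co_sum {r : ℕ} {ι : Type*} (t : Finset ι) (v : ι → (Fin r → MvPolynomial (Option (Fin n)) k)) (d : ℕ) :
    co (∑ a ∈ t, v a) d = ∑ a ∈ t, co (v a) d :=
  map_sum (AddMonoidHom.mk' (fun z => co z d) fun z w => co_add z w d) v t

theorem co_C {r : ℕ} (c : k) (z : Fin r → MvPolynomial (Option (Fin n)) k) (d : ℕ) :
    co ((C c : MvPolynomial (Option (Fin n)) k) • z) d = c • co z d := funext fun j => by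
  simp only [co, Pi.smul_apply, smul_eq_mul, map_mul]
  rw [show rees k n (C c) = Polynomial.C (C c) from (rees k n).commutes c, Polynomial.coeff_C_mul, smul_eq_C_mul]

theorem co_none {r : ℕ} (z : Fin r → MvPolynomial (Option (Fin n)) k) (d : ℕ) :
    co ((X none : MvPolynomial (Option (Fin n)) k) • z) (d + 1) = co z d ∧
      co ((X none : MvPolynomial (Option (Fin n)) k) • z) 0 = 0 := by
  have hnone : rees k n (X none) = Polynomial.X := aeval_X _ _
  refine ⟨funext fun j => ?_, funext fun j => ?_⟩ <;>
    simp only [co, Pi.smul_apply, smul_eq_mul, map_mul, hnone, Pi.zero_apply]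
  · rw [Polynomial.coeff_X_mul]
  · rw [Polynomial.coeff_X_mul_zero]

theorem co_some {r : ℕ} (z : Fin r → MvPolynomial (Option (Fin n)) k) (d : ℕ) (i : Fin n) :
    co ((X (some i) : MvPolynomial (Option (Fin n)) k) • z) (d + 1) = (X i : MvPolynomial (Fin n) k) • co z d ∧
      co ((X (some i) : MvPolynomial (Option (Fin n)) k) • z) 0 = 0 := by
  have hsome : rees k n (X (some i)) = Polynomial.C (X i) * Polynomial.X := aeval_X _ _
  refine ⟨funext fun j => ?_, funext fun j => ?_⟩ <;>
    simp only [co, Pi.smul_apply, smul_eq_mul, map_mul, hsome, Pi.zero_apply, mul_assoc, Polynomial.coeff_C_mul]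
  · rw [Polynomial.coeff_X_mul]
  · rw [Polynomial.coeff_X_mul_zero, mul_zero]

/-- A filtration of submodules of bounded degree, stable under the variables, is generated in bounded
degree. -/
theorem exists_generated_degree {k : Type u} [Field k] {n r : ℕ}
    (H : ℕ → Submodule k (Fin r → MvPolynomial (Fin n) k))
    (hdeg : ∀ d, ∀ h ∈ H d, ∀ j, (h j).totalDegree ≤ d) (hmono : ∀ d, H d ≤ H (d + 1))
    (hX : ∀ d i, ∀ h ∈ H d, (X i : MvPolynomial (Fin n) k) • h ∈ H (d + 1)) :
    ∃ D, ∀ d ≥ D, ∀ h ∈ H (d + 1), ∃ h0 ∈ H d, ∃ g : Fin n → (Fin r → MvPolynomial (Fin n) k),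
      (∀ i, g i ∈ H d) ∧ h = h0 + ∑ i, (X i : MvPolynomial (Fin n) k) • g i := by
  classical
  let T := MvPolynomial (Option (Fin n)) k
  let W : Submodule T (Fin r → T) :=
    { carrier := {z | ∀ d, co z d ∈ H d}
      zero_mem' := fun d => by rw [co_zero]; exact zero_mem _
      add_mem' := fun {z w} hz hw d => by rw [co_add]; exact add_mem (hz d) (hw d)
      smul_mem' := fun p z => by
        induction p using MvPolynomial.induction_on generalizing z with
        | C c => intro hz d; rw [co_C]; exact (H d).smul_mem c (hz d)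
        | add p q hp hq => intro hz d; rw [add_smul, co_add]; exact add_mem (hp z hz d) (hq z hz d)
        | mul_X p o hp =>
          intro hz
          rw [mul_smul]
          refine hp _ fun d => ?_
          cases o with
          | none =>
            cases d with
            | zero => rw [(co_none z 0).2]; exact zero_mem _
            | succ d => rw [(co_none z d).1]; exact hmono d (hz d)
          | some i =>
            cases d with
            | zero => rw [(co_some z 0 i).2]; exact zero_mem _
            | succ d => rw [(co_some z d i).1]; exact hX d i _ (hz d) }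
  obtain ⟨s, hs⟩ := IsNoetherian.noetherian W
  obtain ⟨D, hDdef⟩ : ∃ D, ∀ a ∈ s, ∀ j, (rees k n (a j)).natDegree ≤ D := by
    let F : (Fin r → T) → ℕ := fun z => Finset.univ.sup fun j => (rees k n (z j)).natDegree
    refine ⟨s.sup F, fun a ha j => ?_⟩
    have h1 : (rees k n (a j)).natDegree ≤ F a :=
      Finset.le_sup (f := fun j => (rees k n (a j)).natDegree) (Finset.mem_univ j)
    exact h1.trans (Finset.le_sup ha)
  refine ⟨D, fun d hd h hh => ?_⟩
  choose z hz using fun j => exists_rees (hdeg (d + 1) h hh j)
  have hzW : z ∈ W := fun e => by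
    by_cases he : d + 1 = e
    · subst he
      rw [show co z (d + 1) = h from funext fun j => by simp [co, hz]]
      exact hh
    · rw [show co z e = 0 from funext fun j => by simp [co, hz, Polynomial.coeff_monomial, he]]
      exact zero_mem _
  have key : ∀ w ∈ W, ∃ h0 ∈ H d, ∃ g : Fin n → (Fin r → MvPolynomial (Fin n) k),
      (∀ i, g i ∈ H d) ∧ co w (d + 1) = h0 + ∑ i, (X i : MvPolynomial (Fin n) k) • g i := by
    intro w hw
    rw [← hs, Submodule.mem_span_finset] at hw
    obtain ⟨f, -, rfl⟩ := hw
    choose c p hp using fun a => exists_eq_C_add_sum (f a)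
    have hzero : ∀ a ∈ s, co a (d + 1) = 0 := fun a ha => funext fun j =>
      Polynomial.coeff_eq_zero_of_natDegree_lt (Nat.lt_succ_of_le ((hDdef a ha j).trans hd))
    let w' : Option (Fin n) → (Fin r → T) := fun o => ∑ a ∈ s, p a o • a
    have hw' : ∀ o, w' o ∈ W := fun o => sum_mem fun a ha => W.smul_mem _ (hs.le (Submodule.subset_span ha))
    refine ⟨co (w' none) d, hw' none d, fun i => co (w' (some i)) d, fun i => hw' (some i) d, ?_⟩
    have hsum : ∑ a ∈ s, f a • a = (∑ a ∈ s, (C (c a) : T) • a) + ∑ o, (X o : T) • w' o := by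
      simp only [w', Finset.smul_sum, smul_smul]
      rw [Finset.sum_comm (s := Finset.univ), ← Finset.sum_add_distrib]
      refine Finset.sum_congr rfl fun a _ => ?_
      rw [← Finset.sum_smul, ← add_smul, ← hp a]
    rw [hsum, co_add, Fintype.sum_option, co_add, co_sum Finset.univ]
    rw [show co (∑ a ∈ s, (C (c a) : T) • a) (d + 1) = 0 from funext fun j => by
      simp only [co, Finset.sum_apply, Pi.smul_apply, smul_eq_mul, map_sum, Polynomial.finsetSum_coeff, map_mul,
        Pi.zero_apply]
      refine Finset.sum_eq_zero fun a ha => ?_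
      rw [show rees k n (C (c a)) = Polynomial.C (C (c a)) from (rees k n).commutes _, Polynomial.coeff_C_mul,
        show (rees k n (a j)).coeff (d + 1) = 0 from congrFun (hzero a ha) j, mul_zero], zero_add,
      (co_none _ d).1]
    exact congrArg _ (Finset.sum_congr rfl fun i _ => (co_some _ d i).1)
  obtain ⟨h0, hh0, g, hg, e⟩ := key z hzW
  exact ⟨h0, hh0, g, hg, by rw [← e]; exact funext fun j => by simp [co, hz]⟩

variable {V : Type u} [CommRing V] [IsDomain V] [ValuationRing V]

/-- Saturated submodules of a finite free module over `V[X]` are finitely generated. -/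
theorem fg_of_saturated {r : ℕ} (M : Submodule (MvPolynomial (Fin n) V) (Fin r → MvPolynomial (Fin n) V))
    (hsat : ∀ (c : V) (x : Fin r → MvPolynomial (Fin n) V), c ≠ 0 → c • x ∈ M → x ∈ M) : M.FG := by
  classical
  let P := MvPolynomial (Fin n) V
  let Fd : ℕ → Submodule V (Fin r → P) := fun d => Submodule.pi Set.univ fun _ => restrictTotalDegree (Fin n) V d
  have memFd : ∀ {d : ℕ} {x : Fin r → P}, x ∈ Fd d ↔ ∀ j, (x j).totalDegree ≤ d := by
    intro d x
    simp only [Fd, Submodule.mem_pi, Set.mem_univ, true_implies]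
    exact forall_congr' fun j => mem_restrictTotalDegree (Fin n) d (x j)
  have hfin : ∀ d, Module.Finite V (Fd d) := fun d => by
    let e : (Fin r → restrictTotalDegree (Fin n) V d) →ₗ[V] Fd d :=
      { toFun := fun x => ⟨fun j => (x j).1, memFd.mpr fun j => (mem_restrictTotalDegree _ _ _).mp (x j).2⟩
        map_add' := fun _ _ => rfl
        map_smul' := fun _ _ => rfl }
    exact Module.Finite.of_surjective e fun x =>
      ⟨fun j => ⟨x.1 j, (mem_restrictTotalDegree _ _ _).mpr (memFd.mp x.2 j)⟩, rfl⟩
  let Md : ℕ → Submodule V (Fin r → P) := fun d => M.restrictScalars V ⊓ Fd d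
  have hfg : ∀ d, (Md d).FG ∧ ∀ x ∈ Md d, (∃ y ∈ IsLocalRing.maximalIdeal V • Fd d, x = y) →
      x ∈ IsLocalRing.maximalIdeal V • Md d := by
    intro d
    haveI := hfin d
    let K : Submodule V (Fd d) := (M.restrictScalars V).comap (Fd d).subtype
    haveI : Module.IsTorsionFree V (Fd d ⧸ K) := .of_smul_eq_zero fun c z hz => by
      obtain ⟨z, rfl⟩ := Submodule.Quotient.mk_surjective _ z
      rw [← Submodule.Quotient.mk_smul, Submodule.Quotient.mk_eq_zero] at hz
      rcases eq_or_ne c 0 with h | h
      · exact Or.inl h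
      · exact Or.inr ((Submodule.Quotient.mk_eq_zero _).mpr (hsat c z.1 h hz))
    haveI : Module.Flat V (Fd d ⧸ K) := by
      rw [Module.Flat.flat_iff_torsion_eq_bot_of_isBezout, ← Submodule.isTorsionFree_iff_torsion_eq_bot]
      infer_instance
    haveI : Module.Free V (Fd d ⧸ K) := Module.free_of_flat_of_isLocalRing
    obtain ⟨σ, hσ⟩ := Module.projective_lifting_property K.mkQ LinearMap.id K.mkQ_surjective
    let π : Fd d →ₗ[V] K := (LinearMap.id - σ.comp K.mkQ).codRestrict K fun x => by
      rw [← Submodule.Quotient.mk_eq_zero K, ← Submodule.mkQ_apply]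
      simp only [LinearMap.sub_apply, LinearMap.id_apply, LinearMap.comp_apply, map_sub]
      rw [show K.mkQ (σ (K.mkQ x)) = K.mkQ x from LinearMap.congr_fun hσ _, sub_self]
    have hπ : ∀ x : K, π x.1 = x := fun x => Subtype.ext (by
      simp [π, show K.mkQ x.1 = 0 from (Submodule.Quotient.mk_eq_zero K).mpr x.2])
    have heq : Md d = LinearMap.range ((Fd d).subtype.comp K.subtype) := by
      ext x
      constructor
      · rintro ⟨h1, h2⟩
        exact ⟨⟨⟨x, h2⟩, h1⟩, rfl⟩
      · rintro ⟨⟨⟨y, h2⟩, h1⟩, rfl⟩
        exact ⟨h1, h2⟩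
    refine ⟨?_, fun x hx ⟨y, hy, hxy⟩ => ?_⟩
    · haveI : Module.Finite V K := Module.Finite.of_surjective π fun x => ⟨x.1, hπ x⟩
      rw [heq, LinearMap.range_eq_map]
      exact (Module.Finite.fg_top).map _
    · subst hxy
      have h2 : x ∈ Fd d := hx.2
      have h3 : (⟨x, h2⟩ : Fd d) ∈ IsLocalRing.maximalIdeal V • (⊤ : Submodule V (Fd d)) :=
        Submodule.mem_smul_top_iff _ _ _ |>.mpr hy
      have h4 : π ⟨x, h2⟩ ∈ IsLocalRing.maximalIdeal V • (⊤ : Submodule V K) :=
        Submodule.smul_top_le_comap_smul_top _ π h3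
      rw [show π ⟨x, h2⟩ = ⟨⟨x, h2⟩, hx.1⟩ from hπ ⟨⟨x, h2⟩, hx.1⟩] at h4
      have h5 := Submodule.mem_map_of_mem (f := (Fd d).subtype.comp K.subtype) h4
      rw [Submodule.map_smul'', Submodule.map_top, ← heq] at h5
      exact h5
  have hmono : ∀ d, Md d ≤ Md (d + 1) := fun d x hx =>
    ⟨hx.1, memFd.mpr fun j => (memFd.mp hx.2 j).trans (Nat.le_succ d)⟩
  have hMX : ∀ d i, ∀ x ∈ Md d, (X i : P) • x ∈ Md (d + 1) := fun d i x hx =>
    ⟨M.smul_mem _ hx.1, memFd.mpr fun j => by
      rw [Pi.smul_apply, smul_eq_mul]
      exact (totalDegree_mul _ _).trans (by rw [totalDegree_X]; have := memFd.mp hx.2 j; omega)⟩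
  let κ := IsLocalRing.ResidueField V
  let res : V →+* κ := IsLocalRing.residue V
  let red : (Fin r → P) → (Fin r → MvPolynomial (Fin n) κ) := fun x j => MvPolynomial.map res (x j)
  have red_add : ∀ x y, red (x + y) = red x + red y := fun x y => funext fun j => by simp [red]
  have red_zero : red 0 = 0 := funext fun j => by simp [red]
  have red_smul : ∀ (p : P) x, red (p • x) = MvPolynomial.map res p • red x := fun p x => funext fun j => by
    simp [red]
  let H : ℕ → Submodule κ (Fin r → MvPolynomial (Fin n) κ) := fun d =>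
    { carrier := red '' (Md d)
      zero_mem' := ⟨0, zero_mem _, red_zero⟩
      add_mem' := by
        rintro _ _ ⟨a, ha, rfl⟩ ⟨b, hb, rfl⟩
        exact ⟨a + b, add_mem ha hb, red_add a b⟩
      smul_mem' := by
        rintro c _ ⟨a, ha, rfl⟩
        obtain ⟨c, rfl⟩ := IsLocalRing.residue_surjective c
        refine ⟨(C c : P) • a, ?_, ?_⟩
        · rw [show (C c : P) • a = c • a from algebraMap_smul P c a]; exact (Md d).smul_mem c ha
        · rw [red_smul, MvPolynomial.map_C]; exact algebraMap_smul (MvPolynomial (Fin n) κ) (res c) (red a) }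
  obtain ⟨D, hD⟩ := exists_generated_degree H
    (fun d => by rintro _ ⟨a, ha, rfl⟩ j; exact (Finset.sup_mono (support_map_subset res (a j))).trans (memFd.mp ha.2 j))
    (fun d => by rintro _ ⟨a, ha, rfl⟩; exact ⟨a, hmono d ha, rfl⟩)
    (fun d i => by rintro _ ⟨a, ha, rfl⟩; exact ⟨_, hMX d i a ha, by rw [red_smul, map_X]⟩)
  let N : Submodule P (Fin r → P) := Submodule.span P (Md D)
  have hNM : N ≤ M := Submodule.span_le.mpr fun x hx => hx.1
  have hall : ∀ d, D ≤ d → Md d ≤ N.restrictScalars V := by
    intro d hd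
    induction d, hd using Nat.le_induction with
    | base => exact fun x hx => Submodule.subset_span hx
    | succ d hd ih =>
      refine le_trans ?_ (inf_le_left (b := Md (d + 1)))
      refine Submodule.le_of_le_smul_of_le_jacobson_bot (I := IsLocalRing.maximalIdeal V) (hfg (d + 1)).1
        (IsLocalRing.jacobson_eq_maximalIdeal ⊥ bot_ne_top).ge fun x hx => ?_
      obtain ⟨h0, hh0, g, hg, e⟩ := hD d hd (red x) ⟨x, hx, rfl⟩
      obtain ⟨a0, ha0, rfl⟩ := hh0
      choose a ha hag using hg
      let y := a0 + ∑ i, (X i : P) • a i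
      have hy : y ∈ N.restrictScalars V ⊓ Md (d + 1) :=
        ⟨N.add_mem (ih ha0) (sum_mem fun i _ => N.smul_mem _ (ih (ha i))),
          add_mem (hmono d ha0) (sum_mem fun i _ => hMX d i _ (ha i))⟩
      rw [← add_sub_cancel y x]
      refine Submodule.add_mem_sup hy ((hfg (d + 1)).2 _ (sub_mem hx hy.2) ⟨x - y, ?_, rfl⟩)
      have hr : ∀ j, MvPolynomial.map res ((x - y) j) = 0 := by
        intro j
        have e' : red x = red y := by
          rw [e, show red y = red a0 + red (∑ i, (X i : P) • a i) from red_add _ _,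
            show red (∑ i, (X i : P) • a i) = ∑ i, red ((X i : P) • a i) from
              map_sum (AddMonoidHom.mk' red red_add) _ _]
          refine congrArg _ (Finset.sum_congr rfl fun i _ => ?_)
          rw [red_smul, map_X, hag i]
        rw [Pi.sub_apply, map_sub, sub_eq_zero]
        exact congrFun e' j
      -- coefficientwise in `m`, inside `Fd`
      have hxy : x - y ∈ Fd (d + 1) := (sub_mem hx hy.2).2
      rw [show x - y = ∑ j, ∑ mm ∈ ((x - y) j).support,
          coeff mm ((x - y) j) • (Pi.single j (monomial mm (1 : V)) : Fin r → P) by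
        conv_lhs => rw [← Finset.univ_sum_single (x - y)]
        refine Finset.sum_congr rfl fun j _ => ?_
        conv_lhs => rw [← ((x - y) j).support_sum_monomial_coeff]
        rw [← LinearMap.single_apply (R := V), map_sum]
        refine Finset.sum_congr rfl fun mm _ => ?_
        rw [← LinearMap.single_apply (R := V), ← map_smul, smul_monomial, smul_eq_mul, mul_one]]
      refine sum_mem fun j _ => sum_mem fun mm hmm => Submodule.smul_mem_smul ?_ (memFd.mpr fun i => ?_)
      · have := congrArg (coeff mm) (hr j)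
        rw [coeff_map, coeff_zero] at this
        exact (IsLocalRing.residue_eq_zero_iff _).mp this
      · rcases eq_or_ne i j with rfl | hij
        · rw [Pi.single_eq_same]
          exact (totalDegree_monomial_le _ _).trans ((le_totalDegree hmm).trans (memFd.mp hxy i))
        · rw [Pi.single_eq_of_ne hij, totalDegree_zero]; exact Nat.zero_le _
  have hMN : M = N := by
    refine le_antisymm (fun x hx => ?_) hNM
    let d := max D (Finset.univ.sup fun j => (x j).totalDegree)
    exact hall d (le_max_left _ _) ⟨hx, memFd.mpr fun j =>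
      (Finset.le_sup (f := fun j => (x j).totalDegree) (Finset.mem_univ j)).trans (le_max_right _ _)⟩
  rw [hMN]
  obtain ⟨s, hs⟩ := (hfg D).1
  refine ⟨s, le_antisymm (Submodule.span_mono fun x hx => hs.le (Submodule.subset_span hx))
    (Submodule.span_le.mpr fun x hx => ?_)⟩
  exact Submodule.span_le_restrictScalars V P (s : Set (Fin r → P)) (hs.ge hx)

end Groth.Agent.ValFP
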